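import Cfsg.Agent.Lib.Sp4Pres.Roots

/-!
# A group with the short list of relations is no larger than `Sp₄`

Eight double cosets of a subgroup made of the four positive families and the torus exhaust the group.
-/

set_option autoImplicit false
set_option linter.unusedSectionVars false

namespace Cfsg.Agent.Sp4Pres

open Polynomial Cfsg.Agent.RootLib Cfsg.Agent.RootLibK Cfsg.Agent.SL2Pres
open scoped Pointwise commutatorElement

variable {p : ℕ} [Fact p.Prime] {F : Type*} [Field F] [Fintype F] [Algebra (ZMod p) F] {H : Type*} [Group H]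

theorem hS_pow (D : Data p F) (n : ℕ) :
    hS D ^ n = diagEl (fun t : F => uEl t) (fun t : F => lEl (-t)) (D.ζ ^ n) := by
  have R := rels_sl_two (K := F)
  induction n with
  | zero => rw [pow_zero, pow_zero, R.diag_one]
  | succ n ih => rw [pow_succ, pow_succ, ih, R.diag_mul (pow_ne_zero _ D.ne) D.ne]; rfl

theorem hS_pow_card (D : Data p F) : hS D ^ (Fintype.card F - 1) = 1 := by
  rw [hS_pow, FiniteField.pow_card_sub_one_eq_one _ D.ne, (rels_sl_two (K := F)).diag_one]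

theorem wS_uEl_wS (D : Data p F) {k : ℕ} (hk : D.ζ ^ k = -1) {t : F} (ht : t ≠ 0) :
    ∃ (r : F) (j : ℕ), wS F * uEl t * wS F = uEl r * hS D ^ j * wS F * uEl r * hS D ^ k := by
  have R := rels_sl_two (K := F)
  obtain ⟨j, hj⟩ := D.gen t⁻¹ (inv_ne_zero ht)
  refine ⟨-t⁻¹, j, ?_⟩
  set X := fun t : F => (uEl t : Matrix.SpecialLinearGroup (Fin 2) F) with hX
  set Y := fun t : F => (lEl (-t) : Matrix.SpecialLinearGroup (Fin 2) F) with hY
  have e1 := R.mon_x (one_ne_zero (α := F)) t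
  rw [one_pow, div_one] at e1
  change wS F * X t = Y t * wS F at e1
  have e2 : hS D ^ j * wS F = monEl X Y t⁻¹ := by
    rw [hS_pow, hj, diagEl]; exact inv_mul_cancel_right _ _
  rw [← diag_neg_one D hk]
  show wS F * X t * wS F = X (-t⁻¹) * hS D ^ j * wS F * X (-t⁻¹) * (wS F * wS F)
  rw [e1, mul_assoc (X (-t⁻¹)), e2, monEl, inv_inv, R.x_neg t⁻¹]
  group

variable {E : Dat p F} {g : Fin 6 → H} (R : Holds6 E g)
include R

/-- The positive unipotent elements. -/
def Us : Set H := Set.range fun q : F × F × F × F => xa R q.1 * xb R q.2.1 * xc R q.2.2.1 * xz R q.2.2.2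

/-- The torus elements. -/
def Ts (_ : Holds6 E g) : Set H := {x | ∃ n m : ℕ, x = g 1 ^ n * g 4 ^ m}

/-- The Borel elements. -/
def Bs : Set H := Us R * Ts R

/-- The Weyl element of a letter. -/
def wl (_ : Holds6 E g) : Bool → H
  | true => g 2
  | false => g 5

/-- The root family of a letter. -/
noncomputable def fam : Bool → F → H
  | true => xa R
  | false => xb R

/-- The complement of a letter's family inside the unipotent elements. -/
def Vs : Bool → Set H
  | true => Set.range fun q : F × F × F => xb R q.1 * xc R q.2.1 * xz R q.2.2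
  | false => Set.range fun q : F × F × F => xa R q.1 * xc R q.2.1 * xz R q.2.2

theorem fam_add : ∀ s a b, fam R s (a + b) = fam R s a * fam R s b
  | true => xa_add R
  | false => xb_add R

theorem one_mem_Us : (1 : H) ∈ Us R :=
  ⟨(0, 0, 0, 0), by simp [zero_of_add (xa_add R), zero_of_add (xb_add R), zero_of_add (xc_add R),
    zero_of_add (xz_add R)]⟩

theorem mem_Us (t u v r : F) : xa R t * xb R u * xc R v * xz R r ∈ Us R := ⟨(t, u, v, r), rfl⟩

theorem lz (s : F) {x : H} (hx : x ∈ Us R) : xz R s * x ∈ Us R := by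
  obtain ⟨⟨t, u, v, r⟩, rfl⟩ := hx
  convert mem_Us R t u v (s + r) using 1
  rw [xz_add]
  simp only []
  calc xz R s * (xa R t * xb R u * xc R v * xz R r)
      = (xz R s * xa R t) * xb R u * xc R v * xz R r := by group
    _ = xa R t * (xz R s * xb R u) * xc R v * xz R r := by rw [← (comm_az R t s).eq]; group
    _ = xa R t * xb R u * (xz R s * xc R v) * xz R r := by rw [← (comm_bz R u s).eq]; group
    _ = _ := by rw [← (comm_cz R v s).eq]; group

theorem la (s : F) {x : H} (hx : x ∈ Us R) : xa R s * x ∈ Us R := by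
  obtain ⟨⟨t, u, v, r⟩, rfl⟩ := hx
  convert mem_Us R (s + t) u v r using 1
  rw [xa_add]; group

theorem lc (s : F) {x : H} (hx : x ∈ Us R) : xc R s * x ∈ Us R := by
  obtain ⟨⟨t, u, v, r⟩, rfl⟩ := hx
  have e := cac_all R t s
  rw [commutatorElement_def, neg_of_add (xz_add R)] at e
  have e' : xc R s * xa R t = xz R (2 * t * s) * (xa R t * xc R s) := by
    rw [← inv_inv (xz R (2 * t * s)), ← e]; group
  convert lz R (2 * t * s) (mem_Us R t u (s + v) r) using 1
  rw [xc_add]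
  simp only []
  calc xc R s * (xa R t * xb R u * xc R v * xz R r) = (xc R s * xa R t) * xb R u * xc R v * xz R r := by group
    _ = xz R (2 * t * s) * xa R t * (xc R s * xb R u) * xc R v * xz R r := by rw [e']; group
    _ = _ := by rw [← (comm_bc R u s).eq]; group

theorem lb (s : F) {x : H} (hx : x ∈ Us R) : xb R s * x ∈ Us R := by
  obtain ⟨⟨t, u, v, r⟩, rfl⟩ := hx
  have e := cab_all R t s
  rw [commutatorElement_def] at e
  have e' : xb R s * xa R t = xz R (-(t ^ 2 * s)) * xc R (t * s) * (xa R t * xb R s) := by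
    rw [neg_of_add (xz_add R), ← inv_inv (xc R (t * s)), ← neg_of_add (xc_add R), ← mul_inv_rev, ← e]; group
  convert lz R (-(t ^ 2 * s)) (lc R (t * s) (mem_Us R t (s + u) v r)) using 1
  rw [xb_add]
  simp only []
  calc xb R s * (xa R t * xb R u * xc R v * xz R r) = (xb R s * xa R t) * xb R u * xc R v * xz R r := by group
    _ = _ := by rw [e']; group

theorem Us_mul {x y : H} (hx : x ∈ Us R) (hy : y ∈ Us R) : x * y ∈ Us R := by
  obtain ⟨⟨t, u, v, r⟩, rfl⟩ := hx
  simp only [mul_assoc]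
  exact la R t (lb R u (lc R v (lz R r hy)))

theorem Us_inv {x : H} (hx : x ∈ Us R) : x⁻¹ ∈ Us R := by
  obtain ⟨⟨t, u, v, r⟩, rfl⟩ := hx
  simp only [mul_inv_rev, ← neg_of_add (xa_add R), ← neg_of_add (xb_add R), ← neg_of_add (xc_add R),
    ← neg_of_add (xz_add R)]
  have h := lz R (-r) (lc R (-v) (lb R (-u) (la R (-t) (one_mem_Us R))))
  rwa [mul_one] at h

theorem xa_mem (t : F) : xa R t ∈ Us R := by
  simpa using la R t (one_mem_Us R)

theorem xb_mem (t : F) : xb R t ∈ Us R := by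
  simpa using lb R t (one_mem_Us R)

theorem xc_mem (t : F) : xc R t ∈ Us R := by
  simpa using lc R t (one_mem_Us R)

theorem xz_mem (t : F) : xz R t ∈ Us R := by
  simpa using lz R t (one_mem_Us R)

theorem fam_mem (s : Bool) (t : F) : fam R s t ∈ Us R := by
  cases s
  exacts [xb_mem R t, xa_mem R t]

theorem split : ∀ (s : Bool) {x : H}, x ∈ Us R → ∃ v ∈ Vs R s, ∃ t, x = v * fam R s t
  | false, _, ⟨⟨t, u, v, r⟩, rfl⟩ => ⟨_, ⟨(t, v, r), rfl⟩, u, by
      simp only [fam]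
      calc xa R t * xb R u * xc R v * xz R r = xa R t * xc R v * (xb R u * xz R r) := by
            rw [mul_assoc (xa R t), (comm_bc R u v).eq]; group
        _ = _ := by rw [(comm_bz R u r).eq]; group⟩
  | true, x, hx => by
      obtain ⟨⟨t, u, v, r⟩, e⟩ := Us_inv R hx
      refine ⟨_, ⟨(-u, -v, -r), rfl⟩, -t, ?_⟩
      simp only [fam, neg_of_add (xa_add R), neg_of_add (xb_add R), neg_of_add (xc_add R), neg_of_add (xz_add R)]
      rw [← inv_inv x, ← e]
      simp only []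
      have k1 := (comm_bc R u v).eq
      have k2 := (comm_bz R u r).eq
      have k3 := (comm_cz R v r).eq
      generalize xa R t = a, xb R u = b, xc R v = c, xz R r = z at *
      calc (a * b * c * z)⁻¹ = (a * (b * (c * z)))⁻¹ := by group
        _ = (a * ((z * c) * b))⁻¹ := by
          rw [← k3, mul_assoc c z b, ← k2, ← mul_assoc c b z, ← k1, mul_assoc b c z]
        _ = _ := by group

theorem split' (s : Bool) {x : H} (hx : x ∈ Us R) : ∃ v ∈ Vs R s, ∃ t, x = fam R s t * v⁻¹ := by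
  obtain ⟨v, hv, t, e⟩ := split R s (Us_inv R hx)
  exact ⟨v, hv, -t, by rw [neg_of_add (fam_add R s), ← inv_inv x, e]; group⟩

theorem wl_V : ∀ (s : Bool) {v : H}, v ∈ Vs R s →
    wl R s * v * (wl R s)⁻¹ ∈ Us R ∧ (wl R s)⁻¹ * v * wl R s ∈ Us R
  | true, _, ⟨⟨u, v, r⟩, rfl⟩ => by
      simp only [wl]
      refine ⟨?_, ?_⟩
      · rw [show g 2 * (xb R u * xc R v * xz R r) * (g 2)⁻¹ =
          g 2 * xb R u * (g 2)⁻¹ * (g 2 * xc R v * (g 2)⁻¹) * (g 2 * xz R r * (g 2)⁻¹) by group, wa_xc, wa_xz]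
        exact Us_mul R (Us_mul R (xz_mem R u) (xc_mem R _)) (xb_mem R r)
      · have e1 : (g 2)⁻¹ * xb R u * g 2 = xz R u := by rw [← wa_xz R u]; group
        have e2 : (g 2)⁻¹ * xc R v * g 2 = xc R (-v) := by
          conv_lhs => rw [← neg_neg v, ← wa_xc R]
          group
        have e3 : (g 2)⁻¹ * xz R r * g 2 = xb R r := by rw [xz]; group
        rw [show (g 2)⁻¹ * (xb R u * xc R v * xz R r) * g 2 =
          (g 2)⁻¹ * xb R u * g 2 * ((g 2)⁻¹ * xc R v * g 2) * ((g 2)⁻¹ * xz R r * g 2) by group, e1, e2, e3]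
        exact Us_mul R (Us_mul R (xz_mem R u) (xc_mem R _)) (xb_mem R r)
  | false, _, ⟨⟨t, v, r⟩, rfl⟩ => by
      simp only [wl]
      refine ⟨?_, ?_⟩
      · rw [show g 5 * (xa R t * xc R v * xz R r) * (g 5)⁻¹ =
          g 5 * xa R t * (g 5)⁻¹ * (g 5 * xc R v * (g 5)⁻¹) * (g 5 * xz R r * (g 5)⁻¹) by group, wb_xc, wb_xz]
        exact Us_mul R (Us_mul R (xc_mem R t) (xa_mem R _)) (xz_mem R r)
      · have e1 : (g 5)⁻¹ * xa R t * g 5 = xc R (-t) := by
          conv_lhs => rw [← neg_neg t, ← wb_xc R]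
          group
        have e2 : (g 5)⁻¹ * xc R v * g 5 = xa R v := by rw [xc]; group
        have e3 : (g 5)⁻¹ * xz R r * g 5 = xz R r := by
          conv_lhs => rw [← wb_xz R r]
          group
        rw [show (g 5)⁻¹ * (xa R t * xc R v * xz R r) * g 5 =
          (g 5)⁻¹ * xa R t * g 5 * ((g 5)⁻¹ * xc R v * g 5) * ((g 5)⁻¹ * xz R r * g 5) by group, e1, e2, e3]
        exact Us_mul R (Us_mul R (xc_mem R _) (xa_mem R v)) (xz_mem R r)

theorem one_mem_Ts : (1 : H) ∈ Ts R := ⟨0, 0, by simp⟩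

theorem Ts_mul {x y : H} (hx : x ∈ Ts R) (hy : y ∈ Ts R) : x * y ∈ Ts R := by
  obtain ⟨n, m, rfl⟩ := hx
  obtain ⟨n', m', rfl⟩ := hy
  refine ⟨n + n', m + m', ?_⟩
  rw [pow_add, pow_add, mul_assoc, ← mul_assoc (g 4 ^ m), ← (R.hh.pow_pow n' m).eq]; group

theorem Ts_pow {x : H} (hx : x ∈ Ts R) : ∀ n : ℕ, x ^ n ∈ Ts R
  | 0 => by rw [pow_zero]; exact one_mem_Ts R
  | n + 1 => by rw [pow_succ]; exact Ts_mul R (Ts_pow hx n) hx

theorem g1_mem : g 1 ∈ Ts R := ⟨1, 0, by simp⟩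

theorem g4_mem : g 4 ∈ Ts R := ⟨0, 1, by simp⟩

theorem g1_card : g 1 ^ (Fintype.card F - 1) = 1 := by
  rw [← (φA_spec R).2.1, ← map_pow, hS_pow_card, map_one]

theorem g4_card : g 4 ^ (Fintype.card F - 1) = 1 := by
  rw [← (φB_spec R).2.1, ← map_pow, hS_pow_card, map_one]

theorem g1_inv : (g 1)⁻¹ ∈ Ts R := by
  refine ⟨Fintype.card F - 1 - 1, 0, ?_⟩
  have h2 := Fintype.one_lt_card (α := F)
  rw [pow_zero, mul_one]
  refine inv_eq_of_mul_eq_one_right ?_
  rw [← pow_succ', show Fintype.card F - 1 - 1 + 1 = Fintype.card F - 1 by omega, g1_card R]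

theorem g4_inv : (g 4)⁻¹ ∈ Ts R := by
  refine ⟨0, Fintype.card F - 1 - 1, ?_⟩
  have h2 := Fintype.one_lt_card (α := F)
  rw [pow_zero, one_mul]
  refine inv_eq_of_mul_eq_one_right ?_
  rw [← pow_succ', show Fintype.card F - 1 - 1 + 1 = Fintype.card F - 1 by omega, g4_card R]

theorem tor_sc {τ : H} (hτ : τ ∈ Ts R) : ∃ la lb lc lz : F, la ≠ 0 ∧ lb ≠ 0 ∧
    Sc τ (xa R) la ∧ Sc τ (xb R) lb ∧ Sc τ (xc R) lc ∧ Sc τ (xz R) lz := by
  obtain ⟨n, m, rfl⟩ := hτ
  have hz := E.D.ne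
  exact ⟨_, _, _, _, mul_ne_zero (pow_ne_zero _ (by first | exact hz | exact pow_ne_zero _ hz | exact inv_ne_zero hz | exact inv_ne_zero (pow_ne_zero _ hz))) (pow_ne_zero _ (by first | exact hz | exact pow_ne_zero _ hz | exact inv_ne_zero hz | exact inv_ne_zero (pow_ne_zero _ hz))),
    mul_ne_zero (pow_ne_zero _ (by first | exact hz | exact pow_ne_zero _ hz | exact inv_ne_zero hz | exact inv_ne_zero (pow_ne_zero _ hz))) (pow_ne_zero _ (by first | exact hz | exact pow_ne_zero _ hz | exact inv_ne_zero hz | exact inv_ne_zero (pow_ne_zero _ hz))), ((aA R).pow n).mul ((bA R).pow m),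
    ((aB R).pow n).mul ((bB R).pow m), ((aC R).pow n).mul ((bC R).pow m), ((aZ R).pow n).mul ((bZ R).pow m)⟩

theorem tor_Us {τ x : H} (hτ : τ ∈ Ts R) (hx : x ∈ Us R) : ∃ y ∈ Us R, τ * x = y * τ := by
  obtain ⟨la, lb, lc, lz, -, -, h1, h2, h3, h4⟩ := tor_sc R hτ
  obtain ⟨⟨t, u, v, r⟩, rfl⟩ := hx
  refine ⟨_, mem_Us R (la * t) (lb * u) (lc * v) (lz * r), ?_⟩
  rw [← h1, ← h2, ← h3, ← h4]; group

theorem fam_tor {τ : H} (hτ : τ ∈ Ts R) : ∀ (s : Bool) (t : F), ∃ t', fam R s t * τ = τ * fam R s t' := by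
  obtain ⟨la, lb, lc, lz, ha, hb, h1, h2, -, -⟩ := tor_sc R hτ
  intro s t
  cases s
  · refine ⟨lb⁻¹ * t, ?_⟩
    have := h2 (lb⁻¹ * t)
    rw [mul_inv_cancel_left₀ hb] at this
    rw [fam, ← this]; group
  · refine ⟨la⁻¹ * t, ?_⟩
    have := h1 (la⁻¹ * t)
    rw [mul_inv_cancel_left₀ ha] at this
    rw [fam, ← this]; group

theorem wl_tor (s : Bool) {τ : H} (hτ : τ ∈ Ts R) : wl R s * τ * (wl R s)⁻¹ ∈ Ts R := by
  obtain ⟨n, m, rfl⟩ := hτ
  rw [show wl R s * (g 1 ^ n * g 4 ^ m) * (wl R s)⁻¹ =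
    wl R s * g 1 ^ n * (wl R s)⁻¹ * (wl R s * g 4 ^ m * (wl R s)⁻¹) by group, ← conj_pow, ← conj_pow]
  cases s <;> simp only [wl]
  · rw [R.wbh, R.rb.inv_h]
    exact Ts_mul R (Ts_pow R (Ts_mul R (Ts_mul R (g1_mem R) (g4_mem R)) (g4_mem R)) n) (Ts_pow R (g4_inv R) m)
  · rw [R.wah, R.ra.inv_h]
    exact Ts_mul R (Ts_pow R (g1_inv R) n) (Ts_pow R (Ts_mul R (g1_mem R) (g4_mem R)) m)

theorem sq_wl (s : Bool) : wl R s * wl R s ∈ Ts R := by
  cases s <;> simp only [wl]
  · rw [sq_wb R]; exact Ts_pow R (g4_mem R) _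
  · rw [sq_wa R]; exact Ts_pow R (g1_mem R) _

theorem mem_Bs {x τ : H} (hx : x ∈ Us R) (hτ : τ ∈ Ts R) : x * τ ∈ Bs R := Set.mul_mem_mul hx hτ

theorem Us_sub : Us R ⊆ Bs R := fun x hx => by simpa using mem_Bs R hx (one_mem_Ts R)

theorem Ts_sub : Ts R ⊆ Bs R := fun x hx => by simpa using mem_Bs R (one_mem_Us R) hx

theorem Bs_mul {x y : H} (hx : x ∈ Bs R) (hy : y ∈ Bs R) : x * y ∈ Bs R := by
  obtain ⟨u, hu, τ, hτ, rfl⟩ := hx
  obtain ⟨u', hu', τ', hτ', rfl⟩ := hy
  obtain ⟨v, hv, e⟩ := tor_Us R hτ hu'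
  simp only []
  rw [show u * τ * (u' * τ') = u * (τ * u') * τ' by group, e, show u * (v * τ) * τ' = u * v * (τ * τ') by group]
  exact mem_Bs R (Us_mul R hu hv) (Ts_mul R hτ hτ')

theorem wl_Bs (s : Bool) {b : H} (hb : b ∈ Bs R) : ∃ b' ∈ Bs R, ∃ t, wl R s * b = b' * wl R s * fam R s t := by
  obtain ⟨u, hu, τ, hτ, rfl⟩ := hb
  obtain ⟨v, hv, t, rfl⟩ := split R s hu
  obtain ⟨t', e⟩ := fam_tor R hτ s t
  refine ⟨_, mem_Bs R (wl_V R s hv).1 (wl_tor R s hτ), t', ?_⟩
  simp only []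
  rw [mul_assoc v, e]; group

theorem wl_fam_wl (s : Bool) (t : F) :
    wl R s * fam R s t * wl R s ∈ Bs R ∨ ∃ b ∈ Bs R, ∃ r, wl R s * fam R s t * wl R s = b * wl R s * fam R s r := by
  by_cases ht : t = 0
  · left
    rw [ht, zero_of_add (fam_add R s), mul_one]
    exact Ts_sub R (sq_wl R s)
  right
  obtain ⟨r, j, e⟩ := wS_uEl_wS E.D E.neg ht
  obtain ⟨x, hx, τ, hτ, τ', hτ', e'⟩ : ∃ x ∈ Us R, ∃ τ ∈ Ts R, ∃ τ' ∈ Ts R,
      wl R s * fam R s t * wl R s = x * τ * (wl R s * (fam R s r * τ')) := by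
    cases s <;> simp only [wl, fam]
    · refine ⟨_, xb_mem R r, _, Ts_pow R (g4_mem R) j, _, Ts_pow R (g4_mem R) E.k, ?_⟩
      have := congrArg (φB R) e
      simp only [map_mul, map_pow, (φB_spec R).2.1, (φB_spec R).2.2] at this
      rw [xb, xb, this]; group
    · refine ⟨_, xa_mem R r, _, Ts_pow R (g1_mem R) j, _, Ts_pow R (g1_mem R) E.k, ?_⟩
      have := congrArg (φA R) e
      simp only [map_mul, map_pow, (φA_spec R).2.1, (φA_spec R).2.2] at this
      rw [xa, xa, this]; group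
  obtain ⟨r', e2⟩ := fam_tor R hτ' s r
  refine ⟨_, Bs_mul R (mem_Bs R hx hτ) (Ts_sub R (wl_tor R s hτ')), r', ?_⟩
  rw [e', e2]; group

/-- The cell of a word, its last letter coming first. -/
noncomputable def cell : List Bool → Set H
  | [] => Bs R
  | s :: v => cell v * {wl R s} * Set.range (fam R s)

/-- The product of the Weyl elements of a word. -/
def wlWord : List Bool → H
  | [] => 1
  | s :: v => wlWord v * wl R s

theorem mem_cell_cons {s : Bool} {v : List Bool} {x : H} (hx : x ∈ cell R v) (t : F) :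
    x * wl R s * fam R s t ∈ cell R (s :: v) :=
  Set.mul_mem_mul (Set.mul_mem_mul hx rfl) ⟨t, rfl⟩

theorem mem_cell_cons' {s : Bool} {v : List Bool} {x : H} (hx : x ∈ cell R (s :: v)) :
    ∃ y ∈ cell R v, ∃ t, x = y * wl R s * fam R s t := by
  obtain ⟨a, ⟨y, hy, _, rfl, rfl⟩, _, ⟨t, rfl⟩, rfl⟩ := hx
  exact ⟨y, hy, t, rfl⟩

theorem cell_mul_Bs : ∀ (v : List Bool) {x b : H}, x ∈ cell R v → b ∈ Bs R → x * b ∈ cell R v
  | [], _, _, hx, hb => Bs_mul R hx hb
  | s :: v, x, b, hx, hb => by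
      obtain ⟨y, hy, t, rfl⟩ := mem_cell_cons' R hx
      obtain ⟨b', hb', r, e⟩ := wl_Bs R s (Bs_mul R (Us_sub R (fam_mem R s t)) hb)
      rw [show y * wl R s * fam R s t * b = y * (wl R s * (fam R s t * b)) by group, e,
        show y * (b' * wl R s * fam R s r) = y * b' * wl R s * fam R s r by group]
      exact mem_cell_cons R (cell_mul_Bs v hy hb') r

theorem cell_mul_wl_new (s : Bool) (v : List Bool) {x : H} (hx : x ∈ cell R v) : x * wl R s ∈ cell R (s :: v) := by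
  have := mem_cell_cons R (s := s) hx 0
  rwa [zero_of_add (fam_add R s), mul_one] at this

theorem cell_mul_wl_old (s : Bool) (v : List Bool) {x : H} (hx : x ∈ cell R (s :: v)) :
    x * wl R s ∈ cell R v ∨ x * wl R s ∈ cell R (s :: v) := by
  obtain ⟨y, hy, t, rfl⟩ := mem_cell_cons' R hx
  rw [show y * wl R s * fam R s t * wl R s = y * (wl R s * fam R s t * wl R s) by group]
  rcases wl_fam_wl R s t with h | ⟨b, hb, r, e⟩
  · exact Or.inl (cell_mul_Bs R v hy h)
  · refine Or.inr ?_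
    rw [e, show y * (b * wl R s * fam R s r) = y * b * wl R s * fam R s r by group]
    exact mem_cell_cons R (cell_mul_Bs R v hy hb) r

/-- Along a reduced word the letters' families move into the unipotent elements. -/
def Good : List Bool → Prop
  | [] => True
  | s :: v => Good v ∧ ∀ t, wlWord R v * fam R s t * (wlWord R v)⁻¹ ∈ Us R

theorem cell_sub : ∀ (v : List Bool), Good R v → ∀ x ∈ cell R v, x ∈ Bs R * {wlWord R v} * Us R
  | [], _, x, hx => by
      have h := Set.mul_mem_mul (Set.mul_mem_mul hx (Set.mem_singleton (1 : H))) (one_mem_Us R)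
      rw [mul_one, mul_one] at h
      exact h
  | s :: v, hv, x, hx => by
      obtain ⟨y, hy, t, rfl⟩ := mem_cell_cons' R hx
      obtain ⟨_, ⟨b, hb, _, rfl, rfl⟩, u, hu, rfl⟩ := cell_sub v hv.1 y hy
      obtain ⟨w, hw, r, rfl⟩ := split' R s hu
      have hw' : (wl R s)⁻¹ * w⁻¹ * wl R s ∈ Us R := by
        have := Us_inv R (wl_V R s hw).2
        simpa [mul_inv_rev, mul_assoc] using this
      have h1 := Set.mul_mem_mul (Set.mul_mem_mul (Bs_mul R hb (Us_sub R (hv.2 r)))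
        (Set.mem_singleton (wlWord R (s :: v)))) (Us_mul R hw' (fam_mem R s t))
      convert h1 using 1
      simp only [wlWord]; group

theorem wlWord_mem : ∀ v, wlWord R v ∈ cell R v
  | [] => Us_sub R (one_mem_Us R)
  | s :: v => cell_mul_wl_new R s v (wlWord_mem v)

theorem Bs_mul_cell : ∀ (v : List Bool) {b x : H}, b ∈ Bs R → x ∈ cell R v → b * x ∈ cell R v
  | [], _, _, hb, hx => Bs_mul R hb hx
  | s :: v, b, x, hb, hx => by
      obtain ⟨y, hy, t, rfl⟩ := mem_cell_cons' R hx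
      rw [show b * (y * wl R s * fam R s t) = b * y * wl R s * fam R s t by group]
      exact mem_cell_cons R (Bs_mul_cell v hb hy) t

theorem cell_le {v w : List Bool} (hv : Good R v) (e : wlWord R v = wlWord R w) : cell R v ⊆ cell R w := by
  intro x hx
  obtain ⟨_, ⟨b, hb, _, rfl, rfl⟩, u, hu, rfl⟩ := cell_sub R v hv x hx
  simp only [e]
  exact cell_mul_Bs R w (Bs_mul_cell R w hb (wlWord_mem R w)) (Us_sub R hu)

theorem top_eq : cell R [false, true, false, true] = cell R [true, false, true, false] := by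
  have e : wlWord R [false, true, false, true] = wlWord R [true, false, true, false] := by
    simp only [wlWord, wl, one_mul]; exact R.braid
  refine Set.Subset.antisymm (cell_le R ?_ e) (cell_le R ?_ e.symm)
  · refine ⟨⟨⟨⟨trivial, fun t => ?_⟩, fun t => ?_⟩, fun t => ?_⟩, fun t => ?_⟩ <;>
      simp only [wlWord, wl, fam, one_mul, inv_one, mul_one]
    · exact xa_mem R t
    · exact xz_mem R t
    · rw [show g 2 * g 5 * xa R t * (g 2 * g 5)⁻¹ = g 2 * xc R t * (g 2)⁻¹ by rw [xc]; group, wa_xc]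
      exact xc_mem R _
    · rw [show g 2 * g 5 * g 2 * xb R t * (g 2 * g 5 * g 2)⁻¹ = g 2 * (g 5 * xz R t * (g 5)⁻¹) * (g 2)⁻¹ by
        rw [xz]; group, wb_xz, wa_xz]
      exact xb_mem R _
  · refine ⟨⟨⟨⟨trivial, fun t => ?_⟩, fun t => ?_⟩, fun t => ?_⟩, fun t => ?_⟩ <;>
      simp only [wlWord, wl, fam, one_mul, inv_one, mul_one]
    · exact xb_mem R t
    · exact xc_mem R t
    · rw [show g 5 * g 2 * xb R t * (g 5 * g 2)⁻¹ = g 5 * xz R t * (g 5)⁻¹ by rw [xz]; group, wb_xz]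
      exact xz_mem R _
    · rw [show g 5 * g 2 * g 5 * xa R t * (g 5 * g 2 * g 5)⁻¹ = g 5 * (g 2 * xc R t * (g 2)⁻¹) * (g 5)⁻¹ by
        rw [xc]; group, wa_xc, wb_xc, neg_neg]
      exact xa_mem R _

/-- The union of the eight cells. -/
noncomputable def total : Set H :=
  cell R [] ∪ cell R [true] ∪ cell R [false] ∪ cell R [false, true] ∪ cell R [true, false] ∪
    cell R [true, false, true] ∪ cell R [false, true, false] ∪ cell R [false, true, false, true]

theorem total_mul_Bs {x b : H} (hx : x ∈ total R) (hb : b ∈ Bs R) : x * b ∈ total R := by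
  simp only [total, Set.mem_union] at hx ⊢
  exact hx.imp (Or.imp (Or.imp (Or.imp (Or.imp (Or.imp (Or.imp (cell_mul_Bs R _ · hb)
    (cell_mul_Bs R _ · hb)) (cell_mul_Bs R _ · hb)) (cell_mul_Bs R _ · hb)) (cell_mul_Bs R _ · hb))
    (cell_mul_Bs R _ · hb)) (cell_mul_Bs R _ · hb)) (cell_mul_Bs R _ · hb)

theorem total_mul_wl (s : Bool) {x : H} (hx : x ∈ total R) : x * wl R s ∈ total R := by
  have hN := cell_mul_wl_new R s
  have hO := cell_mul_wl_old R s
  have ht := top_eq R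
  have m0 : ∀ {y}, y ∈ cell R [] → y ∈ total R := fun h => Or.inl (Or.inl (Or.inl (Or.inl (Or.inl (Or.inl (Or.inl h))))))
  have m1 : ∀ {y}, y ∈ cell R [true] → y ∈ total R := fun h => Or.inl (Or.inl (Or.inl (Or.inl (Or.inl (Or.inl (Or.inr h))))))
  have m2 : ∀ {y}, y ∈ cell R [false] → y ∈ total R := fun h => Or.inl (Or.inl (Or.inl (Or.inl (Or.inl (Or.inr h)))))
  have m3 : ∀ {y}, y ∈ cell R [false, true] → y ∈ total R := fun h => Or.inl (Or.inl (Or.inl (Or.inl (Or.inr h))))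
  have m4 : ∀ {y}, y ∈ cell R [true, false] → y ∈ total R := fun h => Or.inl (Or.inl (Or.inl (Or.inr h)))
  have m5 : ∀ {y}, y ∈ cell R [true, false, true] → y ∈ total R := fun h => Or.inl (Or.inl (Or.inr h))
  have m6 : ∀ {y}, y ∈ cell R [false, true, false] → y ∈ total R := fun h => Or.inl (Or.inr h)
  have m7 : ∀ {y}, y ∈ cell R [false, true, false, true] → y ∈ total R := fun h => Or.inr h
  have m8 : ∀ {y}, y ∈ cell R [true, false, true, false] → y ∈ total R := fun h => Or.inr (ht ▸ h)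
  rcases hx with ((((((h | h) | h) | h) | h) | h) | h) | h <;> cases s
  · exact m2 (hN _ h)
  · exact m1 (hN _ h)
  · exact m3 (hN _ h)
  · exact (hO _ h).elim m0 m1
  · exact (hO _ h).elim m0 m2
  · exact m4 (hN _ h)
  · exact (hO _ h).elim m1 m3
  · exact m5 (hN _ h)
  · exact m6 (hN _ h)
  · exact (hO _ h).elim m2 m4
  · exact m7 (hN _ h)
  · exact (hO _ h).elim m3 m5
  · exact (hO _ h).elim m4 m6
  · exact m8 (hN _ h)
  · exact (hO _ h).elim m5 m7
  · rw [ht] at h
    exact (hO _ h).elim m6 m8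

theorem total_eq_univ (hgen : Subgroup.closure (Set.range g) = ⊤) : total R = Set.univ := by
  refine Set.eq_univ_of_forall fun x => ?_
  have hBs : ∀ b ∈ Bs R, ∀ y ∈ total R, y * b ∈ total R := fun b hb y hy => total_mul_Bs R hy hb
  have hwi : ∀ s, ∀ y ∈ total R, y * (wl R s)⁻¹ ∈ total R := fun s y hy => by
    obtain ⟨n, m, e⟩ := sq_wl R s
    have h : (g 4)⁻¹ ^ m * (g 1)⁻¹ ^ n ∈ Ts R := Ts_mul R (Ts_pow R (g4_inv R) m) (Ts_pow R (g1_inv R) n)
    rw [inv_pow, inv_pow, ← mul_inv_rev, ← e] at h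
    rw [show y * (wl R s)⁻¹ = y * (wl R s * wl R s)⁻¹ * wl R s by group]
    exact total_mul_wl R s (hBs _ (Ts_sub R h) y hy)
  have h0 : g 0 ∈ Us R := xa_one R ▸ xa_mem R 1
  have h3 : g 3 ∈ Us R := xb_one R ▸ xb_mem R 1
  refine Subgroup.closure_induction_right (p := fun y _ => y ∈ total R) ?_ ?_ ?_
    (hgen ▸ Subgroup.mem_top x : x ∈ Subgroup.closure (Set.range g))
  · simp only [total, Set.mem_union]
    repeat left
    exact Us_sub R (one_mem_Us R)
  · rintro y - _ ⟨i, rfl⟩ hy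
    fin_cases i
    exacts [hBs _ (Us_sub R h0) y hy, hBs _ (Ts_sub R (g1_mem R)) y hy, total_mul_wl R true hy,
      hBs _ (Us_sub R h3) y hy, hBs _ (Ts_sub R (g4_mem R)) y hy, total_mul_wl R false hy]
  · rintro y - _ ⟨i, rfl⟩ hy
    fin_cases i
    exacts [hBs _ (Us_sub R (Us_inv R h0)) y hy, hBs _ (Ts_sub R (g1_inv R)) y hy, hwi true y hy,
      hBs _ (Us_sub R (Us_inv R h3)) y hy, hBs _ (Ts_sub R (g4_inv R)) y hy, hwi false y hy]

theorem Ts_eq_range : Ts R ⊆ Set.range fun q : Fin (Fintype.card F - 1) × Fin (Fintype.card F - 1) =>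
    g 1 ^ (q.1 : ℕ) * g 4 ^ (q.2 : ℕ) := by
  rintro _ ⟨n, m, rfl⟩
  have h2 := Fintype.one_lt_card (α := F)
  refine ⟨(⟨n % (Fintype.card F - 1), Nat.mod_lt _ (by omega)⟩,
    ⟨m % (Fintype.card F - 1), Nat.mod_lt _ (by omega)⟩), ?_⟩
  simp only [← pow_eq_pow_mod n (g1_card R), ← pow_eq_pow_mod m (g4_card R)]

theorem cell_card : ∀ v, (cell R v).Finite ∧ (cell R v).ncard ≤
    Fintype.card F ^ 4 * (Fintype.card F - 1) ^ 2 * Fintype.card F ^ v.length
  | [] => by
      have hU : (Us R).Finite := Set.finite_range _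
      have hT : (Ts R).Finite := (Set.finite_range _).subset (Ts_eq_range R)
      refine ⟨hU.mul hT, ?_⟩
      rw [List.length_nil, pow_zero, mul_one, ← Nat.card_coe_set_eq]
      refine Set.natCard_mul_le.trans (Nat.mul_le_mul ?_ ?_)
      · refine (Finite.card_range_le _).trans (le_of_eq ?_)
        simp only [Nat.card_eq_fintype_card, Fintype.card_prod]
        ring
      · refine (Nat.card_mono (Set.finite_range _) (Ts_eq_range R)).trans ((Finite.card_range_le _).trans (le_of_eq ?_))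
        simp only [Nat.card_eq_fintype_card, Fintype.card_prod, Fintype.card_fin]
        ring
  | s :: v => by
      obtain ⟨hf, hc⟩ := cell_card v
      refine ⟨(hf.mul (Set.finite_singleton _)).mul (Set.finite_range _), ?_⟩
      rw [List.length_cons, pow_succ (Fintype.card F) v.length, ← mul_assoc, ← Nat.card_coe_set_eq]
      refine Set.natCard_mul_le.trans (Nat.mul_le_mul (Set.natCard_mul_le.trans ?_) ?_)
      · rw [Nat.card_coe_set_eq, Nat.card_coe_set_eq, Set.ncard_singleton, mul_one]; exact hc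
      · exact (Finite.card_range_le _).trans (Nat.card_eq_fintype_card).le

/-- The group has at most as many elements as `Sp₄`. -/
theorem card_le (hgen : Subgroup.closure (Set.range g) = ⊤) :
    Finite H ∧ Nat.card H ≤ Fintype.card F ^ 4 * ((Fintype.card F ^ 2 - 1) * (Fintype.card F ^ 4 - 1)) := by
  have hfin : (Set.univ : Set H).Finite := by
    rw [← total_eq_univ R hgen, total]
    simp only [Set.finite_union]
    exact ⟨⟨⟨⟨⟨⟨⟨(cell_card R _).1, (cell_card R _).1⟩, (cell_card R _).1⟩, (cell_card R _).1⟩,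
      (cell_card R _).1⟩, (cell_card R _).1⟩, (cell_card R _).1⟩, (cell_card R _).1⟩
  refine ⟨Set.finite_univ_iff.1 hfin, ?_⟩
  rw [← Set.ncard_univ, ← total_eq_univ R hgen, total]
  refine (Set.ncard_union_le _ _).trans ((Nat.add_le_add ((Set.ncard_union_le _ _).trans (Nat.add_le_add
    ((Set.ncard_union_le _ _).trans (Nat.add_le_add ((Set.ncard_union_le _ _).trans (Nat.add_le_add
    ((Set.ncard_union_le _ _).trans (Nat.add_le_add ((Set.ncard_union_le _ _).trans (Nat.add_le_add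
    ((Set.ncard_union_le _ _).trans (Nat.add_le_add (cell_card R _).2 (cell_card R _).2)) (cell_card R _).2))
    (cell_card R _).2)) (cell_card R _).2)) (cell_card R _).2)) (cell_card R _).2)) (cell_card R _).2).trans
    (le_of_eq ?_))
  simp only [List.length_cons, List.length_nil]
  obtain ⟨q, hq⟩ : ∃ q, Fintype.card F = q + 1 := ⟨Fintype.card F - 1, by have := Fintype.card_pos (α := F); omega⟩
  rw [hq, Nat.add_sub_cancel]
  obtain ⟨a, ha⟩ : ∃ a, (q + 1) ^ 2 = a + 1 := ⟨(q + 1) ^ 2 - 1, by have := Nat.one_le_pow 2 (q + 1) (by omega); omega⟩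
  obtain ⟨b, hb⟩ : ∃ b, (q + 1) ^ 4 = b + 1 := ⟨(q + 1) ^ 4 - 1, by have := Nat.one_le_pow 4 (q + 1) (by omega); omega⟩
  have ha' : a = q ^ 2 + 2 * q := by nlinarith
  have hb' : b = q ^ 4 + 4 * q ^ 3 + 6 * q ^ 2 + 4 * q := by nlinarith
  rw [ha, hb, Nat.add_sub_cancel, Nat.add_sub_cancel, ← hb, ha', hb']
  ring

end Cfsg.Agent.Sp4Pres
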