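import Cfsg.Agent.Lib.Sp4Pres.Words
import Cfsg.Agent.Lib.Fusion.PSpTwoBlocks
import Cfsg.Agent.Lib.AutPSp.Centre
import Cfsg.Agent.Lib.SL2.PresMain

/-!
# The six elements of `Sp₄`

They satisfy the relations and generate.
-/

set_option autoImplicit false
set_option linter.unusedSectionVars false
set_option linter.unusedSimpArgs false
set_option maxHeartbeats 1000000

namespace Cfsg.Agent.Sp4Pres

open Matrix Cfsg.Agent.RootLib Cfsg.Agent.RootLibK Cfsg.Agent.SL2Pres Cfsg.Agent.Fusion.PSpTwoSimple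
open Cfsg.Agent.SL2 (mext)
open Cfsg.Agent.FormsLib (spB spB_expand closure_spTau spEquiv spEquiv_apply coe_spTau tau_apply)
open scoped commutatorElement

variable {p : ℕ} [Fact p.Prime] {F : Type*} [Field F] [Fintype F] [Algebra (ZMod p) F]

local notation "M2" => Matrix (Fin 2) (Fin 2) F
local notation "Sp" => Matrix.symplecticGroup (Fin 2) F
local notation "SLF" => Matrix.SpecialLinearGroup (Fin 2) F

theorem det_sl (M : SLF) : (M : M2) 0 0 * (M : M2) 1 1 - (M : M2) 0 1 * (M : M2) 1 0 = 1 := by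
  rw [← Matrix.det_fin_two]; exact M.2

/-- The rank one group of the short simple root. -/
def embA : SLF →* Sp where
  toFun M := ⟨blk !![(M : M2) 0 0, 0; 0, (M : M2) 1 1] !![(M : M2) 0 1, 0; 0, -(M : M2) 1 0]
      !![(M : M2) 1 0, 0; 0, -(M : M2) 0 1] !![(M : M2) 1 1, 0; 0, (M : M2) 0 0],
    blk_mem (by simp [Matrix.det_fin_two]; linear_combination det_sl M)
      (by simp [Matrix.det_fin_two]; linear_combination det_sl M)
      (by apply mext <;> simp [Matrix.adjugate_fin_two] <;> ring)⟩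
  map_one' := sp_ext (by
    rw [Submonoid.coe_one, ← blk_one]
    show blk _ _ _ _ = blk _ _ _ _
    congr 1 <;> apply mext <;> simp)
  map_mul' M N := sp_ext (by
    rw [Submonoid.coe_mul]
    show blk _ _ _ _ = blk _ _ _ _ * blk _ _ _ _
    rw [blk_mul]
    congr 1 <;> apply mext <;> simp [Matrix.mul_apply, Fin.sum_univ_two] <;> ring)

/-- The rank one group of the long simple root. -/
def embB : SLF →* Sp where
  toFun M := dg 1 M
  map_one' := dg_one
  map_mul' M N := by rw [dg_mul, one_mul]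

theorem embA_coe (M : SLF) : ((embA M : Sp) : Matrix (Fin 2 ⊕ Fin 2) (Fin 2 ⊕ Fin 2) F) =
    blk !![(M : M2) 0 0, 0; 0, (M : M2) 1 1] !![(M : M2) 0 1, 0; 0, -(M : M2) 1 0]
      !![(M : M2) 1 0, 0; 0, -(M : M2) 0 1] !![(M : M2) 1 1, 0; 0, (M : M2) 0 0] := rfl

theorem wS_coe : ((wS F : SLF) : M2) = !![0, 1; -1, 0] := by
  rw [show ((wS F : SLF) : M2) = !![0, 1; -1⁻¹, 0] from monEl_sl one_ne_zero, inv_one]

theorem hS_coe (D : Data p F) : ((hS D : SLF) : M2) = !![D.ζ, 0; 0, D.ζ⁻¹] := by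
  have h : hS D * wS F = monEl (fun t : F => (uEl t : SLF)) (fun t : F => lEl (-t)) D.ζ := by
    rw [hS, diagEl]; exact inv_mul_cancel_right _ _
  have e := congrArg (fun M : SLF => (M : M2)) h
  simp only [Matrix.SpecialLinearGroup.coe_mul, wS_coe] at e
  rw [show ((monEl (fun t : F => (uEl t : SLF)) (fun t : F => lEl (-t)) D.ζ : SLF) : M2) = !![0, D.ζ; -D.ζ⁻¹, 0]
    from monEl_sl D.ne] at e
  have h00 := congrFun (congrFun e 0) 0
  have h01 := congrFun (congrFun e 0) 1
  have h10 := congrFun (congrFun e 1) 0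
  have h11 := congrFun (congrFun e 1) 1
  simp [Matrix.mul_apply, Fin.sum_univ_two] at h00 h01 h10 h11
  apply mext <;> simp_all

theorem waS_dg (a b : SLF) : embA (wS F) * dg a b = dg b a * embA (wS F) := sp_ext (by
  simp only [Submonoid.coe_mul, embA_coe, dg_coe, blk_mul, wS_coe]
  congr 1 <;> apply mext <;> simp [Matrix.mul_apply, Fin.sum_univ_two, Matrix.vecMul, Matrix.mulVec, dotProduct])

theorem waS_conj (a b : SLF) : embA (wS F) * dg a b * (embA (wS F))⁻¹ = dg b a := by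
  rw [waS_dg, mul_inv_cancel_right]

theorem waS_sq : embA (wS F) * embA (wS F) = cs F := sp_ext (by
  rw [cs_coe, ← blk_one (F := F), blk_neg]
  simp only [Submonoid.coe_mul, embA_coe, blk_mul, wS_coe]
  congr 1 <;> apply mext <;> simp [Matrix.mul_apply, Fin.sum_univ_two])

theorem haS_eq (D : Data p F) : embA (hS D) = dg (hS D) (hS D)⁻¹ := sp_ext (by
  simp only [embA_coe, dg_coe, Matrix.SpecialLinearGroup.coe_inv, hS_coe]
  congr 1 <;> apply mext <;> simp [Matrix.adjugate_fin_two])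

/-- The short root element of the third root. -/
def cM (t : F) : Sp :=
  ⟨blk 1 !![0, t; 0, 0] !![0, t; 0, 0] 1, blk_mem (by simp [Matrix.det_fin_two]) (by simp [Matrix.det_fin_two])
    (by apply mext <;> simp [Matrix.adjugate_fin_two, Matrix.mul_apply, Fin.sum_univ_two])⟩

theorem cM_coe (t : F) : ((cM t : Sp) : Matrix (Fin 2 ⊕ Fin 2) (Fin 2 ⊕ Fin 2) F) =
    blk 1 !![0, t; 0, 0] !![0, t; 0, 0] 1 := rfl

theorem cM_inv (t : F) : (cM t)⁻¹ = cM (-t) := inv_eq_of_mul_eq_one_right (sp_ext (by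
  rw [Submonoid.coe_one, ← blk_one]
  simp only [Submonoid.coe_mul, cM_coe, blk_mul]
  congr 1 <;> apply mext <;> simp [Matrix.mul_apply, Fin.sum_univ_two]))

theorem conj_c (t : F) : embB (wS F) * embA (uEl t) * (embB (wS F))⁻¹ = cM (-t) := by
  rw [mul_inv_eq_iff_eq_mul]
  apply sp_ext
  simp only [embB, MonoidHom.coe_mk, OneHom.coe_mk, Submonoid.coe_mul, embA_coe, dg_coe, cM_coe, blk_mul, wS_coe,
    uEl_val]
  congr 1 <;> apply mext <;> simp [Matrix.mul_apply, Fin.sum_univ_two]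

/-- The six generators. -/
noncomputable def gensS (E : Dat p F) : Fin 6 → Sp :=
  ![embA (uEl 1), embA (hS E.D), embA (wS F), embB (uEl 1), embB (hS E.D), embB (wS F)]

theorem spread_sl (E : Dat p F) : E.D.m.natDegree ≤ 2 ∨
    hS E.D ^ E.j * uEl 1 * (hS E.D ^ E.j)⁻¹ = uEl 1 * cjN (hS E.D ^ E.D.i) (uEl 1) 1 := by
  refine E.spread.imp id fun h => ?_
  have hc : ∀ (n : ℕ) (t : F), hS E.D ^ n * uEl t * (hS E.D ^ n)⁻¹ = uEl ((E.D.ζ ^ n) ^ 2 * t) := by
    intro n
    induction n with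
    | zero => intro t; simp
    | succ n ih =>
      intro t
      have h1 : hS E.D * uEl t * (hS E.D)⁻¹ = uEl (E.D.ζ ^ 2 * t) := by
        have := (rels_sl_two (K := F)).diag_x E.D.ne t
        rw [mul_inv_eq_iff_eq_mul, mul_comm (E.D.ζ ^ 2) t]
        exact this
      rw [show hS E.D ^ (n + 1) * uEl t * (hS E.D ^ (n + 1))⁻¹ =
        hS E.D ^ n * (hS E.D * uEl t * (hS E.D)⁻¹) * (hS E.D ^ n)⁻¹ by rw [pow_succ]; group, h1, ih]
      congr 1; ring
  rw [cjN, pow_one, hc, hc, uEl_mul, mul_one, mul_one, h]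

theorem rankL_gens (E : Dat p F) (f : SLF →* Sp) : ∀ r ∈ rankL E (f (uEl 1)) (f (hS E.D)) (f (wS F)), r = 1 := by
  have R := holds_sl E.D (E.spread.imp id fun h => ⟨E.j, h⟩)
  intro r hr
  rw [← map_rankL, List.mem_map] at hr
  obtain ⟨r', hr', rfl⟩ := hr
  suffices r' = 1 by rw [this, map_one]
  revert hr'
  simp only [rankL, List.mem_cons, List.not_mem_nil, or_false]
  rintro (rfl | rfl | rfl | rfl | rfl | rfl | rfl | rfl | rfl)
  · exact R.pow_u
  · exact commutatorElement_eq_one_iff_commute.2 R.comm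
  · simp only [spreadR]
    split_ifs with hd
    · rfl
    · exact mul_inv_eq_one.2 ((spread_sl E).resolve_left hd)
  · exact R.rel_m
  · exact mul_inv_eq_one.2 R.rel_h
  · exact commutatorElement_eq_one_iff_commute.2 R.sq_w
  · rw [R.inv_h, inv_mul_cancel]
  · exact mul_inv_eq_one.2 R.rel_one
  · exact mul_inv_eq_one.2 R.rel_zeta

theorem joinL_gens (E : Dat p F) : ∀ r ∈ joinL E (gensS E), r = 1 := by
  have hne := E.D.ne
  have e0 : gensS E 0 = embA (uEl 1) := rfl
  have e1 : gensS E 1 = embA (hS E.D) := rfl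
  have e2 : gensS E 2 = embA (wS F) := rfl
  have e3 : gensS E 3 = dg 1 (uEl 1) := rfl
  have e4 : gensS E 4 = dg 1 (hS E.D) := rfl
  have e5 : gensS E 5 = dg 1 (wS F) := rfl
  have hz : embA (wS F) * dg 1 (uEl (1 : F)) * (embA (wS F))⁻¹ = dg (uEl 1) 1 := waS_conj _ _
  have hc : dg 1 (wS F) * embA (uEl 1) * (dg 1 (wS F))⁻¹ = cM (-1 : F) := conj_c 1
  have hwh : wS F * hS E.D * (wS F)⁻¹ = (hS E.D)⁻¹ := (holds_sl E.D (E.spread.imp id fun h => ⟨E.j, h⟩)).inv_h
  simp only [joinL, List.mem_cons, List.not_mem_nil, or_false, forall_eq_or_imp, forall_eq,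
    commutatorElement_eq_one_iff_commute, mul_inv_eq_one, e0, e1, e2, e3, e4, e5, hz, hc]
  refine ⟨?_, ?_, ?_, ?_, ?_, ?_, ?_, ?_, ?_, ?_, ?_, ?_, ?_⟩
  · rw [haS_eq, Commute, SemiconjBy, dg_mul, dg_mul]; simp
  · rw [haS_eq, dg_mul, Commute, SemiconjBy, dg_mul, dg_mul]; simp
  · rw [← map_pow, ← map_pw]
    rw [show pw (hS E.D ^ E.D.i) (uEl 1) E.D.fzi = (uEl E.D.ζ⁻¹ : SLF) by
      rw [← E.D.eval_zi]
      refine pw_eq _ (fun t : F => (uEl t : SLF)) (fun s t => (uEl_mul s t).symm) rfl (fun t => ?_) _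
      have hhn : hS E.D ^ E.D.i = diagEl (fun t : F => uEl t) (fun t : F => lEl (-t)) (E.D.ζ ^ E.D.i) := by
        generalize E.D.i = n
        induction n with
        | zero => rw [pow_zero, pow_zero, (rels_sl_two (K := F)).diag_one]
        | succ n ih =>
          rw [pow_succ, pow_succ, ih, (rels_sl_two (K := F)).diag_mul (pow_ne_zero _ E.D.ne) E.D.ne]; rfl
      have := (rels_sl_two (K := F)).diag_x (pow_ne_zero E.D.i E.D.ne) t
      rw [hhn, mul_inv_eq_iff_eq_mul, mul_comm ((E.D.ζ ^ E.D.i) ^ 2) t]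
      exact this, mul_inv_eq_iff_eq_mul]
    apply sp_ext
    simp only [Submonoid.coe_mul, embA_coe, dg_coe, blk_mul, hS_coe, uEl_val, Matrix.SpecialLinearGroup.coe_one]
    congr 1 <;> apply mext <;> simp [Matrix.mul_apply, Fin.sum_univ_two] <;> field_simp
  · rw [waS_conj, haS_eq, dg_mul]; simp
  · rw [haS_eq, dg_mul, dg_inv, dg_mul, dg_mul, dg_mul]
    simp only [one_mul, mul_one, inv_one, inv_mul_cancel]
    rw [show wS F * (hS E.D)⁻¹ * (wS F)⁻¹ = (wS F * hS E.D * (wS F)⁻¹)⁻¹ by group, hwh, inv_inv]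
  · have c1 : ∀ x : Sp, cs F * x = x * cs F := fun x => sp_ext (by
      rw [Submonoid.coe_mul, Submonoid.coe_mul, cs_coe, neg_one_mul, mul_neg_one])
    rw [waS_dg]
    conv_rhs => rw [mul_assoc (dg 1 (wS F)), waS_dg]
    calc dg (wS F) 1 * embA (wS F) * embA (wS F) * dg 1 (wS F)
        = dg (wS F) 1 * (embA (wS F) * embA (wS F) * dg 1 (wS F)) := by group
      _ = dg (wS F) 1 * (dg 1 (wS F) * cs F) := by rw [waS_sq, c1]
      _ = dg 1 (wS F) * dg (wS F) 1 * cs F := by rw [← mul_assoc, dg_mul, dg_mul]; simp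
      _ = _ := by rw [← waS_sq]; group
  · rw [Commute, SemiconjBy, dg_mul, dg_mul]; simp
  · rw [show embA (wS F) * cM (-1) * (embA (wS F))⁻¹ = cM (1 : F) by
      rw [mul_inv_eq_iff_eq_mul]
      apply sp_ext
      simp only [Submonoid.coe_mul, embA_coe, cM_coe, blk_mul, wS_coe]
      congr 1 <;> apply mext <;> simp [Matrix.mul_apply, Fin.sum_univ_two]]
    rw [← cM_inv, mul_inv_cancel]
  · rw [cM_inv, commutatorElement_def, mul_inv_eq_iff_eq_mul, mul_inv_eq_iff_eq_mul]
    apply sp_ext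
    simp only [Submonoid.coe_mul, embA_coe, dg_coe, cM_coe, blk_mul, uEl_val, Matrix.SpecialLinearGroup.coe_one]
    congr 1 <;> apply mext <;> simp [Matrix.mul_apply, Fin.sum_univ_two]
  · rw [dg_mul, one_mul, mul_eq_one_iff_eq_inv, dg_inv, uEl_mul, uEl_inv, inv_one, commutatorElement_def,
      mul_inv_eq_iff_eq_mul, mul_inv_eq_iff_eq_mul]
    apply sp_ext
    simp only [Submonoid.coe_mul, embA_coe, dg_coe, cM_coe, blk_mul, uEl_val, Matrix.SpecialLinearGroup.coe_one]
    congr 1 <;> apply mext <;> simp [Matrix.mul_apply, Fin.sum_univ_two]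
  · apply sp_ext
    simp only [Submonoid.coe_mul, dg_coe, cM_coe, blk_mul, uEl_val, Matrix.SpecialLinearGroup.coe_one]
    congr 1 <;> apply mext <;> simp [Matrix.mul_apply, Fin.sum_univ_two]
  · rw [Commute, SemiconjBy, dg_mul, dg_mul]; simp
  · apply sp_ext
    simp only [Submonoid.coe_mul, embA_coe, dg_coe, blk_mul, uEl_val, Matrix.SpecialLinearGroup.coe_one]
    congr 1 <;> apply mext <;> simp [Matrix.mul_apply, Fin.sum_univ_two]

theorem relL_gens (E : Dat p F) : ∀ r ∈ relL E (gensS E), r = 1 := by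
  simp only [relL, List.mem_append, or_imp, forall_and]
  exact ⟨⟨rankL_gens E embA, rankL_gens E embB⟩, joinL_gens E⟩

theorem exists_sl_norm (a b : F) (h : a ≠ 0 ∨ b ≠ 0) : ∃ P : SLF, (P : M2) *ᵥ ![1, 0] = ![a, b] := by
  rcases eq_or_ne a 0 with rfl | ha
  · have hb : b ≠ 0 := by simpa using h
    refine ⟨⟨!![0, -b⁻¹; b, 0], by simp [Matrix.det_fin_two, hb]⟩, ?_⟩
    ext i; fin_cases i <;> simp [Matrix.mulVec, dotProduct]
  · refine ⟨⟨!![a, 0; b, a⁻¹], by simp [Matrix.det_fin_two, ha]⟩, ?_⟩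
    ext i; fin_cases i <;> simp [Matrix.mulVec, dotProduct]

theorem closure_gensS (E : Dat p F) : Subgroup.closure (Set.range (gensS E)) = ⊤ := by
  set S := Subgroup.closure (Set.range (gensS E)) with hSd
  have hmem : ∀ i, gensS E i ∈ S := fun i => Subgroup.subset_closure ⟨i, rfl⟩
  have hA : ∀ M : SLF, embA M ∈ S := fun M => by
    have h : Subgroup.closure ({uEl 1, hS E.D, wS F} : Set SLF) ≤ S.comap embA := by
      rw [Subgroup.closure_le]
      rintro _ (rfl | rfl | rfl)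
      exacts [hmem 0, hmem 1, hmem 2]
    rw [closure_gens] at h
    exact h (Subgroup.mem_top M)
  have hB : ∀ M : SLF, dg 1 M ∈ S := fun M => by
    have h : Subgroup.closure ({uEl 1, hS E.D, wS F} : Set SLF) ≤ S.comap embB := by
      rw [Subgroup.closure_le]
      rintro _ (rfl | rfl | rfl)
      exacts [hmem 3, hmem 4, hmem 5]
    rw [closure_gens] at h
    exact h (Subgroup.mem_top M)
  have hD : ∀ P Q : SLF, dg P Q ∈ S := fun P Q => by
    have h := S.mul_mem (waS_conj (1 : SLF) P ▸ S.mul_mem (S.mul_mem (hA (wS F)) (hB P)) (S.inv_mem (hA (wS F))))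
      (hB Q)
    rwa [dg_mul, mul_one, one_mul] at h
  set e2 : Fin 2 ⊕ Fin 2 → F := Pi.single (.inl 1) 1 with he2
  have horb : ∀ v : Fin 2 ⊕ Fin 2 → F, v ≠ 0 →
      ∃ s ∈ S, ((s : Sp) : Matrix _ _ F) *ᵥ e2 = v := by
    intro v hv
    by_cases h0 : v (.inl 0) ≠ 0 ∨ v (.inr 0) ≠ 0
    · obtain ⟨P, hP⟩ := exists_sl_norm _ _ h0
      have hP0 := congrFun hP 0
      have hP1 := congrFun hP 1
      simp [Matrix.mulVec, dotProduct, Fin.sum_univ_two] at hP0 hP1
      by_cases h1 : v (.inl 1) ≠ 0 ∨ v (.inr 1) ≠ 0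
      · obtain ⟨Q, hQ⟩ := exists_sl_norm _ _ h1
        have hQ0 := congrFun hQ 0
        have hQ1 := congrFun hQ 1
        simp [Matrix.mulVec, dotProduct, Fin.sum_univ_two] at hQ0 hQ1
        refine ⟨dg P Q * embA (uEl 1), S.mul_mem (hD P Q) (hA _), ?_⟩
        rw [Submonoid.coe_mul, ← Matrix.mulVec_mulVec, dg_coe, embA_coe, he2, uEl_val]
        ext x
        rcases x with x | x <;> fin_cases x <;>
          simp [Matrix.mulVec, dotProduct, Fintype.sum_sum_type, Fin.sum_univ_two, blk, pl, co, hP0, hP1, hQ0, hQ1,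
            Matrix.one_apply]
      · push Not at h1
        refine ⟨dg P 1 * embA (wS F), S.mul_mem (hD P 1) (hA _), ?_⟩
        rw [Submonoid.coe_mul, ← Matrix.mulVec_mulVec, dg_coe, embA_coe, he2, wS_coe]
        ext x
        rcases x with x | x <;> fin_cases x <;>
          simp [Matrix.mulVec, dotProduct, Fintype.sum_sum_type, Fin.sum_univ_two, blk, pl, co, hP0, hP1, h1.1, h1.2,
            Matrix.one_apply]
    · push Not at h0
      have h1 : v (.inl 1) ≠ 0 ∨ v (.inr 1) ≠ 0 := by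
        by_contra h
        push Not at h
        refine hv (funext fun x => ?_)
        rcases x with x | x <;> fin_cases x
        exacts [h0.1, h.1, h0.2, h.2]
      obtain ⟨Q, hQ⟩ := exists_sl_norm _ _ h1
      have hQ0 := congrFun hQ 0
      have hQ1 := congrFun hQ 1
      simp [Matrix.mulVec, dotProduct, Fin.sum_univ_two] at hQ0 hQ1
      refine ⟨dg 1 Q, hB Q, ?_⟩
      rw [dg_coe, he2]
      ext x
      rcases x with x | x <;> fin_cases x <;>
        simp [Matrix.mulVec, dotProduct, Fintype.sum_sum_type, Fin.sum_univ_two, blk, pl, co, hQ0, hQ1, h0.1, h0.2,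
          Matrix.one_apply]
  have htr2 : ∀ c : F, AutPSp.tr e2 c ∈ S := fun c => by
    rw [show AutPSp.tr e2 c = dg 1 (uEl c) from AutPSp.sp_ext fun v => by
      rw [AutPSp.tr_apply, spB_expand, dg_coe, he2, uEl_val]
      ext x
      rcases x with x | x <;> fin_cases x <;>
        simp [Matrix.mulVec, dotProduct, Fintype.sum_sum_type, Fin.sum_univ_two, blk, pl, co, Matrix.one_apply] <;>
        ring]
    exact hB _
  rw [eq_top_iff]
  intro x _
  have h : spEquiv 2 F x ∈ S.map (spEquiv 2 F).toMonoidHom := by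
    refine (Subgroup.closure_le _).2 ?_ ((closure_spTau (m := 2) (F := F)).ge (Subgroup.mem_top _))
    rintro _ ⟨w, c, rfl⟩
    refine ⟨AutPSp.tr w c, ?_, Subtype.ext (LinearEquiv.ext fun v => ?_)⟩
    · rcases eq_or_ne w 0 with rfl | hw
      · rw [show AutPSp.tr (0 : Fin 2 ⊕ Fin 2 → F) c = 1 from AutPSp.sp_ext fun v => by simp]
        exact S.one_mem
      · obtain ⟨s, hs, e⟩ := horb w hw
        rw [← e, ← AutPSp.tr_conj]
        exact S.mul_mem (S.mul_mem hs (htr2 c)) (S.inv_mem hs)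
    · rw [MulEquiv.coe_toMonoidHom, spEquiv_apply, AutPSp.tr_apply, coe_spTau, tau_apply]
  obtain ⟨a, ha, e⟩ := h
  rwa [← (spEquiv 2 F).injective e]

end Cfsg.Agent.Sp4Pres
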