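import Cfsg.Agent.Lib.Sp4Pres.Cells
import Cfsg.Agent.Lib.Sp4Pres.Model
import Cfsg.Agent.Lib.Forms.SpOrder

/-!
# Presentations of `Sp₄` and `PSp₄` with six generators
-/

set_option autoImplicit false
set_option linter.unusedSectionVars false

namespace Cfsg.Agent.Sp4Pres

open Polynomial Cfsg.Agent.SL2Pres Cfsg.Agent.Fusion.PSpTwoSimple

variable {p : ℕ} [Fact p.Prime] {F : Type*} [Field F] [Fintype F] [Algebra (ZMod p) F]

theorem exists_dat {d : ℕ} (hd : Fintype.card F = p ^ d) : Nonempty (Dat p F) := by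
  classical
  haveI := charP_of_injective_algebraMap (algebraMap (ZMod p) F).injective p
  obtain ⟨ζ, h0, ho, hgen⟩ := exists_gen (F := F)
  have hfr : Module.finrank (ZMod p) F = d := by
    have h := Module.card_eq_pow_finrank (K := ZMod p) (V := F)
    rw [ZMod.card, hd] at h
    exact (Nat.pow_right_injective (Fact.out : p.Prime).two_le h).symm
  obtain ⟨D, j, hspread⟩ : ∃ (D : Data p F) (j : ℕ),
      D.m.natDegree ≤ 2 ∨ (D.ζ ^ j) ^ 2 = 1 + (D.ζ ^ D.i) ^ 2 := by
    by_cases h2 : d ≤ 2
    · obtain ⟨D, -, -, -, hdeg⟩ := exists_data (p := p) h0 hgen 1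
        (surj_aeval hd _ (by simpa using sq_gen_ne hd h0 ho))
      exact ⟨D, 0, Or.inl (by omega)⟩
    by_cases hp : p = 2
    · obtain ⟨D, hζ, hi, -, -⟩ := exists_data (p := p) h0 hgen 1
        (surj_aeval hd _ (by simpa using sq_gen_ne hd h0 ho))
      subst hp
      have hne : ζ + 1 ≠ 0 := fun h => by
        have h1 : ζ = 1 := by rw [eq_neg_of_add_eq_zero_left h]; exact CharTwo.neg_eq 1
        rw [h1, orderOf_one, hd] at ho
        have : 2 ^ 3 ≤ 2 ^ d := Nat.pow_le_pow_right two_pos (by omega)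
        omega
      obtain ⟨j, hj⟩ := hgen (ζ + 1) hne
      exact ⟨D, j, Or.inr (by rw [hζ, hi, hj, CharTwo.add_sq, one_pow, pow_one, add_comm])⟩
    · obtain ⟨s, r, hs, hr, hrs, hsne⟩ := exists_squares hd hp (by omega)
      obtain ⟨i, rfl⟩ := hgen s hs
      obtain ⟨j, rfl⟩ := hgen r hr
      obtain ⟨D, hζ, hi, -, -⟩ := exists_data (p := p) h0 hgen i (surj_aeval hd _ hsne)
      exact ⟨D, j, Or.inr (by rw [hζ, hi]; exact hrs)⟩
  obtain ⟨k, hk⟩ := D.gen (-1) (neg_ne_zero.2 one_ne_zero)
  exact ⟨⟨D, k, hk, j, hspread⟩⟩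

local notation "Sp" => Matrix.symplecticGroup (Fin 2) F

theorem present (E : Dat p F) : ∃ (rels : Set (FreeGroup (Fin 6))) (e : PresentedGroup rels ≃* Sp),
    rels = {r | r ∈ relL E (FreeGroup.of (α := Fin 6))} ∧ ∀ i, e (PresentedGroup.of i) = gensS E i := by
  classical
  set rels : Set (FreeGroup (Fin 6)) := {r | r ∈ relL E (FreeGroup.of (α := Fin 6))} with hrels
  have hR : ∀ r ∈ rels, FreeGroup.lift (gensS E) r = 1 := by
    intro r hr
    have h : FreeGroup.lift (gensS E) r ∈ (relL E (FreeGroup.of (α := Fin 6))).map (FreeGroup.lift (gensS E)) :=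
      List.mem_map.2 ⟨r, hr, rfl⟩
    rw [map_relL, show (FreeGroup.lift (gensS E) ∘ FreeGroup.of) = gensS E from funext fun i => by simp] at h
    exact relL_gens E _ h
  let θ := PresentedGroup.toGroup hR
  have hG : ∀ r ∈ relL E (PresentedGroup.of (rels := rels)), r = 1 := by
    intro r hr
    rw [show (PresentedGroup.of (rels := rels)) = PresentedGroup.mk rels ∘ FreeGroup.of from rfl, ← map_relL,
      List.mem_map] at hr
    obtain ⟨r', hr', rfl⟩ := hr
    exact PresentedGroup.one_of_mem hr'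
  obtain ⟨hfin, hcard⟩ := card_le (holds_of_relL E _ hG) (PresentedGroup.closure_range_of rels)
  have hof : ∀ i, θ (PresentedGroup.of i) = gensS E i := fun i => PresentedGroup.toGroup.of hR
  have hsurj : Function.Surjective θ := by
    rw [← MonoidHom.range_eq_top, eq_top_iff, ← closure_gensS E, Subgroup.closure_le]
    rintro _ ⟨i, rfl⟩
    exact ⟨_, hof i⟩
  have hSp : Nat.card Sp = Fintype.card F ^ 4 * ((Fintype.card F ^ 2 - 1) * (Fintype.card F ^ 4 - 1)) := by
    rw [FormsLib.card_symplecticGroup]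
    simp [Finset.prod_range_succ]
  haveI := hfin
  have hbij : Function.Bijective θ := hsurj.bijective_of_nat_card_le (hSp ▸ hcard)
  exact ⟨rels, MulEquiv.ofBijective θ hbij, rfl, hof⟩

theorem center_sub : ∀ z ∈ Subgroup.center Sp, z = 1 ∨ z = cs F := by
  intro z hz
  have h : AutPSp.proj 2 F z = AutPSp.proj 2 F 1 := by
    rw [map_one]; exact (AutPSp.proj_eq_one_iff z).2 hz
  exact (proj_eq'.1 h).imp id fun e => by rw [e, mul_one]

theorem cs_mem_center : cs F ∈ Subgroup.center Sp := Subgroup.mem_center_iff.2 fun x => Subtype.ext (by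
  rw [Submonoid.coe_mul, Submonoid.coe_mul, cs_coe, neg_one_mul, mul_neg_one])

theorem present_both {d : ℕ} (hd : Fintype.card F = p ^ d) :
    (∃ rels : Finset (FreeGroup (Fin 6)), rels.card ≤ 35 ∧
      Nonempty (PresentedGroup (↑rels : Set (FreeGroup (Fin 6))) ≃* Sp)) ∧
    (∃ rels : Finset (FreeGroup (Fin 6)), rels.card ≤ 36 ∧
      Nonempty (PresentedGroup (↑rels : Set (FreeGroup (Fin 6))) ≃* Cfsg.PSp 2 F)) := by
  classical
  obtain ⟨E⟩ := exists_dat (p := p) hd
  obtain ⟨R, e, hRdef, he⟩ := present E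
  set L := relL E (FreeGroup.of (α := Fin 6)) with hL
  have hlen : L.length = 31 := length_relL E _
  have hRL : (↑L.toFinset : Set (FreeGroup (Fin 6))) = R := by rw [hRdef]; ext; simp
  refine ⟨⟨L.toFinset, (List.toFinset_card_le _).trans (by omega), by rw [hRL]; exact ⟨e⟩⟩, ?_⟩
  let c : FreeGroup (Fin 6) := FreeGroup.of 2 * FreeGroup.of 2
  refine ⟨(c :: L).toFinset, (List.toFinset_card_le _).trans (by simp [hlen]), ?_⟩
  set R' : Set (FreeGroup (Fin 6)) := ↑(c :: L).toFinset with hR'
  have hsub : ∀ r ∈ R, r ∈ R' := fun r hr => by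
    rw [← hRL] at hr
    simp only [hR', List.coe_toFinset, Set.mem_setOf_eq] at hr ⊢
    exact List.mem_cons_of_mem _ hr
  let π := QuotientGroup.mk' (Subgroup.center Sp)
  have hee : ∀ r, π (e (PresentedGroup.mk R r)) = FreeGroup.lift (fun i => π (gensS E i)) r := by
    intro r
    have : (π.comp e.toMonoidHom).comp (PresentedGroup.mk R) = FreeGroup.lift fun i => π (gensS E i) :=
      FreeGroup.ext_hom _ _ fun i => by
        rw [FreeGroup.lift_apply_of]
        show π (e (PresentedGroup.of i)) = _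
        rw [he]
    exact DFunLike.congr_fun this r
  have hR2 : ∀ r ∈ R', FreeGroup.lift (fun i => π (gensS E i)) r = 1 := by
    intro r hr
    simp only [hR', List.coe_toFinset, Set.mem_setOf_eq, List.mem_cons] at hr
    rcases hr with rfl | hr
    · simp only [c, map_mul, FreeGroup.lift_apply_of]
      rw [← map_mul]
      refine (QuotientGroup.eq_one_iff _).2 ?_
      rw [show gensS E 2 * gensS E 2 = cs F from waS_sq]
      exact cs_mem_center
    · rw [← hee, PresentedGroup.one_of_mem (by rw [hRdef]; exact hr), map_one, map_one]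
  let fwd := PresentedGroup.toGroup hR2
  have hR3 : ∀ r ∈ R, FreeGroup.lift (PresentedGroup.of (rels := R')) r = 1 := by
    intro r hr
    rw [show FreeGroup.lift (PresentedGroup.of (rels := R')) = PresentedGroup.mk R' from
      FreeGroup.ext_hom _ _ fun i => by rw [FreeGroup.lift_apply_of]; rfl]
    exact PresentedGroup.one_of_mem (hsub r hr)
  let σ : Sp →* PresentedGroup R' := (PresentedGroup.toGroup hR3).comp e.symm.toMonoidHom
  have hσ : ∀ i, σ (gensS E i) = PresentedGroup.of i := fun i => by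
    show PresentedGroup.toGroup hR3 (e.symm (gensS E i)) = _
    rw [← he, e.symm_apply_apply, PresentedGroup.toGroup.of]
  have hker : Subgroup.center Sp ≤ σ.ker := by
    intro z hz
    rcases center_sub z hz with rfl | rfl
    · exact one_mem _
    · rw [MonoidHom.mem_ker, ← waS_sq, show Sp4Pres.embA (SL2Pres.wS F) = gensS E 2 from rfl, map_mul, hσ]
      have := PresentedGroup.one_of_mem (rels := R') (x := c) (by simp [hR'])
      rw [map_mul] at this
      exact this
  let bwd := QuotientGroup.lift _ σ hker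
  refine ⟨MonoidHom.toMulEquiv fwd bwd (PresentedGroup.ext fun i => ?_) (QuotientGroup.monoidHom_ext _ ?_)⟩
  · show bwd (fwd (PresentedGroup.of i)) = _
    rw [PresentedGroup.toGroup.of hR2]
    exact hσ i
  · refine MonoidHom.eq_of_eqOn_dense (closure_gensS E) ?_
    rintro _ ⟨i, rfl⟩
    show fwd (σ (gensS E i)) = π (gensS E i)
    rw [hσ, PresentedGroup.toGroup.of hR2]

end Cfsg.Agent.Sp4Pres
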