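import Cfsg.Agent.Lib.Sp4Pres.Words
import Cfsg.Agent.Lib.StLinear.Uni

/-!
# The root families of type `C₂` from the short list of relations
-/

set_option autoImplicit false
set_option linter.unusedSectionVars false

namespace Cfsg.Agent.Sp4Pres

open Polynomial Cfsg.Agent.RootLib Cfsg.Agent.RootLibK Cfsg.Agent.SL2Pres
open scoped commutatorElement

variable {p : ℕ} [Fact p.Prime] {F : Type*} [Field F] [Finite F] [Algebra (ZMod p) F] {H : Type*} [Group H]

/-- Conjugation by `d` multiplies the parameter by `l`. -/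
def Sc (d : H) (f : F → H) (l : F) : Prop := ∀ t, d * f t * d⁻¹ = f (l * t)

theorem Sc.mul {d e : H} {f : F → H} {l m : F} (h : Sc d f l) (h' : Sc e f m) : Sc (d * e) f (l * m) :=
  fun t => by rw [show d * e * f t * (d * e)⁻¹ = d * (e * f t * e⁻¹) * d⁻¹ by group, h', h, mul_assoc]

theorem Sc.inv {d : H} {f : F → H} {l : F} (h : Sc d f l) (hl : l ≠ 0) : Sc d⁻¹ f l⁻¹ := fun t => by
  have := h (l⁻¹ * t)
  rw [mul_inv_cancel_left₀ hl] at this
  rw [← this]; group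

theorem Sc.pow {d : H} {f : F → H} {l : F} (h : Sc d f l) : ∀ n : ℕ, Sc (d ^ n) f (l ^ n)
  | 0 => fun t => by simp
  | n + 1 => by rw [pow_succ, pow_succ]; exact (h.pow n).mul h

theorem Sc.conj {e : H} {f : F → H} {l : F} (h : Sc e f l) {d k : H} (hk : d⁻¹ * k * d = e) :
    Sc k (fun t => d * f t * d⁻¹) l := fun t => by
  rw [← hk] at h
  show k * (d * f t * d⁻¹) * k⁻¹ = d * f (l * t) * d⁻¹
  rw [← h t]; group

theorem zero_of_add {f : F → H} (ha : ∀ s t, f (s + t) = f s * f t) : f 0 = 1 := by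
  have := ha 0 0
  rw [add_zero] at this
  exact left_eq_mul.1 this

theorem neg_of_add {f : F → H} (ha : ∀ s t, f (s + t) = f s * f t) (t : F) : f (-t) = (f t)⁻¹ :=
  eq_inv_of_mul_eq_one_left (by rw [← ha, neg_add_cancel, zero_of_add ha])

/-- A property closed under sums holds everywhere if it holds on the powers of the scaling. -/
theorem span (E : Dat p F) {P : F → Prop} (h0 : P 0) (hadd : ∀ s t, P s → P t → P (s + t))
    (hn : ∀ n : ℕ, P (((E.D.ζ ^ E.D.i) ^ 2) ^ n)) : ∀ t, P t := by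
  intro t
  obtain ⟨f, rfl⟩ := E.D.surj t
  induction f using Polynomial.induction_on' with
  | add f f' hf hf' => rw [map_add]; exact hadd _ _ hf hf'
  | monomial n c =>
    rw [aeval_monomial, ← Algebra.smul_def, val_smul]
    induction c.val with
    | zero => rwa [zero_smul]
    | succ m ih => rw [succ_nsmul]; exact hadd _ _ ih (hn n)

/-- Transport of a whole family from one value. -/
theorem transfer (E : Dat p F) {x y : F → H} {d a a' : H} {s : F} (hx : ∀ s t, x (s + t) = x s * x t)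
    (hy : ∀ s t, y (s + t) = y s * y t) (h1 : d * x 1 * d⁻¹ = y s) (hda : d * a * d⁻¹ = a')
    (sx : Sc a x ((E.D.ζ ^ E.D.i) ^ 2)) (sy : Sc a' y ((E.D.ζ ^ E.D.i) ^ 2)) :
    ∀ t, d * x t * d⁻¹ = y (s * t) := by
  intro t
  obtain ⟨f, rfl⟩ := E.D.surj t
  rw [← pw_eq _ x hx rfl sx f]
  have h := map_pw (p := p) (MulAut.conj d).toMonoidHom a (x 1) f
  simp only [MulEquiv.toMonoidHom_eq_coe, MonoidHom.coe_coe, MulAut.conj_apply] at h
  rw [h, h1, hda]
  exact pw_eq (a := a') (u := y s) _ (fun t => y (s * t)) (fun u v => by rw [mul_add, hy]) (by rw [mul_one])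
    (fun u => by rw [sy, mul_left_comm]) f

theorem commute_move {d x y x' y' : H} (h : Commute x y) (ex : d * x * d⁻¹ = x') (ey : d * y * d⁻¹ = y') :
    Commute x' y' := ex ▸ ey ▸ h.map (MulAut.conj d)

theorem commutator_move {d x y z x' y' z' : H} (h : ⁅x, y⁆ = z) (ex : d * x * d⁻¹ = x') (ey : d * y * d⁻¹ = y')
    (ez : d * z * d⁻¹ = z') : ⁅x', y'⁆ = z' := by
  rw [← ex, ← ey, ← ez, ← h]
  simp only [commutatorElement_def]; group

/-- Two families commute once their first values do. -/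
theorem commute_all (E : Dat p F) {x y : F → H} (hx : ∀ s t, x (s + t) = x s * x t)
    (hy : ∀ s t, y (s + t) = y s * y t) (h : Commute (x 1) (y 1)) {d e : H} {μ : F} (hμ : μ ≠ 0)
    (dx : Sc d x 1) (dy : Sc d y ((E.D.ζ ^ E.D.i) ^ 2)) (ex : Sc e x ((E.D.ζ ^ E.D.i) ^ 2)) (ey : Sc e y μ) :
    ∀ t r, Commute (x t) (y r) := by
  have h1 : ∀ r, Commute (x 1) (y r) := span E (by rw [zero_of_add hy]; exact Commute.one_right _)
    (fun s t hs ht => by rw [hy]; exact hs.mul_right ht)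
    (fun n => commute_move h ((dx.pow n 1).trans (by rw [one_pow, one_mul])) ((dy.pow n 1).trans (by rw [mul_one])))
  refine span E (fun r => by rw [zero_of_add hx]; exact Commute.one_left _)
    (fun s t hs ht r => by rw [hx]; exact (hs r).mul_left (ht r)) fun n r => ?_
  exact commute_move (h1 ((μ ^ n)⁻¹ * r)) ((ex.pow n 1).trans (by rw [mul_one]))
    ((ey.pow n _).trans (by rw [mul_inv_cancel_left₀ (pow_ne_zero _ hμ)]))

theorem diag_neg_one {p : ℕ} [Fact p.Prime] [Algebra (ZMod p) F] (D : Data p F) {k : ℕ} (hk : D.ζ ^ k = -1) :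
    wS F * wS F = hS D ^ k := by
  have R := rels_sl_two (K := F)
  have hhn : ∀ n : ℕ, hS D ^ n = diagEl (fun t : F => uEl t) (fun t : F => lEl (-t)) (D.ζ ^ n) := fun n => by
    induction n with
    | zero => rw [pow_zero, pow_zero, R.diag_one]
    | succ n ih => rw [pow_succ, pow_succ, ih, R.diag_mul (pow_ne_zero _ D.ne) D.ne]; rfl
  rw [hhn, hk]
  set m := diagEl (fun t : F => (uEl t : Matrix.SpecialLinearGroup (Fin 2) F)) (fun t : F => lEl (-t)) (-1) with hm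
  have h1 : m * m = 1 := by
    rw [hm, ← R.diag_mul (neg_ne_zero.2 one_ne_zero) (neg_ne_zero.2 one_ne_zero), neg_one_mul, neg_neg, R.diag_one]
  have h2 : m = (wS F * wS F)⁻¹ := by
    rw [hm, diagEl, ← R.mon_inv, wS, mul_inv_rev]
  rw [h2] at h1 ⊢
  exact (inv_eq_of_mul_eq_one_right h1).symm.trans (inv_inv _) |>.symm

theorem hS_conj {p : ℕ} [Fact p.Prime] [Algebra (ZMod p) F] (D : Data p F) (t : F) :
    hS D * uEl t * (hS D)⁻¹ = uEl (D.ζ ^ 2 * t) := by
  have := (rels_sl_two (K := F)).diag_x D.ne t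
  rw [mul_inv_eq_iff_eq_mul, mul_comm (D.ζ ^ 2) t]
  exact this

variable {E : Dat p F} {g : Fin 6 → H} (R : Holds6 E g)
include R

/-- The first rank one map. -/
noncomputable def φA : Matrix.SpecialLinearGroup (Fin 2) F →* H := (exists_hom E.D R.ra).choose

/-- The second rank one map. -/
noncomputable def φB : Matrix.SpecialLinearGroup (Fin 2) F →* H := (exists_hom E.D R.rb).choose

theorem φA_spec : φA R (uEl 1) = g 0 ∧ φA R (hS E.D) = g 1 ∧ φA R (wS F) = g 2 :=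
  (exists_hom E.D R.ra).choose_spec

theorem φB_spec : φB R (uEl 1) = g 3 ∧ φB R (hS E.D) = g 4 ∧ φB R (wS F) = g 5 :=
  (exists_hom E.D R.rb).choose_spec

/-- The short simple root family. -/
noncomputable def xa (t : F) : H := φA R (uEl t)

/-- The long simple root family. -/
noncomputable def xb (t : F) : H := φB R (uEl t)

/-- The highest root family. -/
noncomputable def xz (t : F) : H := g 2 * xb R t * (g 2)⁻¹

/-- The remaining short positive root family. -/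
noncomputable def xc (t : F) : H := g 5 * xa R t * (g 5)⁻¹

theorem xa_add (s t : F) : xa R (s + t) = xa R s * xa R t := by rw [xa, xa, xa, ← map_mul, uEl_mul]

theorem xb_add (s t : F) : xb R (s + t) = xb R s * xb R t := by rw [xb, xb, xb, ← map_mul, uEl_mul]

theorem xz_add (s t : F) : xz R (s + t) = xz R s * xz R t := by
  rw [xz, xz, xz, xb_add]; group

theorem xc_add (s t : F) : xc R (s + t) = xc R s * xc R t := by
  rw [xc, xc, xc, xa_add]; group

theorem xa_one : xa R 1 = g 0 := (φA_spec R).1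

theorem xb_one : xb R 1 = g 3 := (φB_spec R).1

theorem xz_one : xz R 1 = g 2 * g 3 * (g 2)⁻¹ := by rw [xz, xb_one]

theorem xc_one : xc R 1 = g 5 * g 0 * (g 5)⁻¹ := by rw [xc, xa_one]

theorem sq_wa : g 2 * g 2 = g 1 ^ E.k := by
  rw [← (φA_spec R).2.2, ← (φA_spec R).2.1, ← map_mul, ← map_pow, diag_neg_one E.D E.neg]

theorem sq_wb : g 5 * g 5 = g 4 ^ E.k := by
  rw [← (φB_spec R).2.2, ← (φB_spec R).2.1, ← map_mul, ← map_pow, diag_neg_one E.D E.neg]

theorem wa_inv_hb : (g 2)⁻¹ * g 4 * g 2 = g 1 * g 4 := by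
  have h : g 2 * (g 1 * g 4) * (g 2)⁻¹ = g 4 := by
    rw [show g 2 * (g 1 * g 4) * (g 2)⁻¹ = g 2 * g 1 * (g 2)⁻¹ * (g 2 * g 4 * (g 2)⁻¹) by group, R.ra.inv_h,
      R.wah]
    group
  conv_lhs => rw [← h]
  group

theorem wb_inv_ha : (g 5)⁻¹ * g 1 * g 5 = g 1 * g 4 * g 4 := by
  have h : g 5 * (g 1 * g 4 * g 4) * (g 5)⁻¹ = g 1 := by
    rw [show g 5 * (g 1 * g 4 * g 4) * (g 5)⁻¹ =
      g 5 * g 1 * (g 5)⁻¹ * (g 5 * g 4 * (g 5)⁻¹) * (g 5 * g 4 * (g 5)⁻¹) by group, R.rb.inv_h, R.wbh]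
    group
  conv_lhs => rw [← h]
  group

theorem wa_inv_ha : (g 2)⁻¹ * g 1 * g 2 = (g 1)⁻¹ := by
  have h : g 2 * (g 1)⁻¹ * (g 2)⁻¹ = g 1 := by
    rw [show g 2 * (g 1)⁻¹ * (g 2)⁻¹ = (g 2 * g 1 * (g 2)⁻¹)⁻¹ by group, R.ra.inv_h, inv_inv]
  conv_lhs => rw [← h]
  group

theorem wb_inv_hb : (g 5)⁻¹ * g 4 * g 5 = (g 4)⁻¹ := by
  have h : g 5 * (g 4)⁻¹ * (g 5)⁻¹ = g 4 := by
    rw [show g 5 * (g 4)⁻¹ * (g 5)⁻¹ = (g 5 * g 4 * (g 5)⁻¹)⁻¹ by group, R.rb.inv_h, inv_inv]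
  conv_lhs => rw [← h]
  group

theorem aA : Sc (g 1) (xa R) (E.D.ζ ^ 2) := fun t => by
  rw [← (φA_spec R).2.1, xa, xa, ← hS_conj E.D t, map_mul, map_mul, map_inv]

theorem bB : Sc (g 4) (xb R) (E.D.ζ ^ 2) := fun t => by
  rw [← (φB_spec R).2.1, xb, xb, ← hS_conj E.D t, map_mul, map_mul, map_inv]

theorem aiA : Sc (g 1 ^ E.D.i) (xa R) ((E.D.ζ ^ E.D.i) ^ 2) := by
  rw [← pow_mul, mul_comm, pow_mul]; exact (aA R).pow _

theorem biB : Sc (g 4 ^ E.D.i) (xb R) ((E.D.ζ ^ E.D.i) ^ 2) := by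
  rw [← pow_mul, mul_comm, pow_mul]; exact (bB R).pow _

theorem bA : Sc (g 4) (xa R) E.D.ζ⁻¹ := by
  refine transfer E (xa_add R) (xa_add R) ?_ ?_ (aiA R) (aiA R)
  · rw [xa_one, R.hbu, pw_eq _ (xa R) (xa_add R) (xa_one R) (aiA R), E.D.eval_zi]
  · exact mul_inv_eq_of_eq_mul (R.hh.symm.pow_right _).eq

theorem abB : Sc (g 1 * g 4) (xb R) 1 := by
  refine transfer E (xb_add R) (xb_add R) ?_ ?_ (biB R) (biB R)
  · rw [xb_one, mul_inv_eq_of_eq_mul R.hhu.eq]
  · exact mul_inv_eq_of_eq_mul ((R.hh.mul_left (Commute.refl _)).pow_right _).eq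

theorem aB : Sc (g 1) (xb R) (E.D.ζ ^ 2)⁻¹ := by
  have h := (abB R).mul ((bB R).inv (pow_ne_zero _ E.D.ne))
  rwa [mul_inv_cancel_right, one_mul] at h

theorem aZ : Sc (g 1) (xz R) (E.D.ζ ^ 2) := by
  have h := ((aB R).inv (inv_ne_zero (pow_ne_zero _ E.D.ne))).conj (wa_inv_ha R)
  rwa [inv_inv] at h

theorem bZ : Sc (g 4) (xz R) 1 := (abB R).conj (wa_inv_hb R)

theorem aC : Sc (g 1) (xc R) 1 := by
  have hne := E.D.ne
  have h := (((aA R).mul (bA R)).mul (bA R)).conj (wb_inv_ha R)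
  rwa [show E.D.ζ ^ 2 * E.D.ζ⁻¹ * E.D.ζ⁻¹ = 1 by field_simp] at h

theorem bC : Sc (g 4) (xc R) E.D.ζ := by
  have h := ((bA R).inv (inv_ne_zero E.D.ne)).conj (wb_inv_hb R)
  rwa [inv_inv] at h

theorem wb_xz : ∀ t, g 5 * xz R t * (g 5)⁻¹ = xz R t := by
  intro t
  refine (transfer E (a := g 1 ^ E.D.i) (a' := (g 1 * g 4 * g 4) ^ E.D.i) (s := 1) (xz_add R) (xz_add R)
    ?_ ?_ ?_ ?_ t).trans (by rw [one_mul])
  · rw [xz_one]; exact mul_inv_eq_of_eq_mul R.wbz.eq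
  · rw [← R.wbh, conj_pow]
  · rw [← pow_mul, mul_comm, pow_mul]; exact (aZ R).pow _
  · have h := (((aZ R).mul (bZ R)).mul (bZ R)).pow E.D.i
    rwa [mul_one, mul_one, ← pow_mul, mul_comm, pow_mul] at h

theorem wa_xc : ∀ t, g 2 * xc R t * (g 2)⁻¹ = xc R (-t) := by
  intro t
  refine (transfer E (a := (g 4 * g 4) ^ E.D.i) (a' := (g 1 * g 4 * (g 1 * g 4)) ^ E.D.i) (s := -1) (xc_add R)
    (xc_add R) ?_ ?_ ?_ ?_ t).trans (by rw [neg_one_mul])
  · rw [neg_of_add (xc_add R), xc_one]; exact R.wac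
  · rw [← R.wah, ← conj_pow]; congr 1; group
  · have h := ((bC R).mul (bC R)).pow E.D.i
    rwa [mul_pow E.D.ζ E.D.ζ, ← pow_two (E.D.ζ ^ E.D.i)] at h
  · have h := (((aC R).mul (bC R)).mul ((aC R).mul (bC R))).pow E.D.i
    rwa [one_mul, mul_pow E.D.ζ E.D.ζ, ← pow_two (E.D.ζ ^ E.D.i)] at h

theorem wa_xz : ∀ t, g 2 * xz R t * (g 2)⁻¹ = xb R t := by
  intro t
  have h := ((aB R).pow E.k) t
  rw [inv_pow, ← pow_mul, mul_comm 2, pow_mul, E.neg, neg_one_sq, inv_one, one_mul, ← sq_wa R] at h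
  conv_rhs => rw [← h]
  rw [xz]; group

theorem wb_xc : ∀ t, g 5 * xc R t * (g 5)⁻¹ = xa R (-t) := by
  intro t
  have h := ((bA R).pow E.k) t
  rw [inv_pow, E.neg, inv_neg, inv_one, neg_one_mul, ← sq_wb R] at h
  conv_rhs => rw [← h]
  rw [xc]; group

theorem comm_bz : ∀ u r, Commute (xb R u) (xz R r) := by
  refine commute_all E (d := (g 1 * g 4) ^ E.D.i) (e := g 4 ^ E.D.i) (μ := 1) (xb_add R) (xz_add R) ?_
    one_ne_zero ?_ ?_ (biB R) ?_
  · rw [xb_one, xz_one]; exact R.cbz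
  · simpa using (abB R).pow E.D.i
  · have h := ((aZ R).mul (bZ R)).pow E.D.i
    rwa [mul_one, ← pow_mul, mul_comm, pow_mul] at h
  · simpa using (bZ R).pow E.D.i

theorem comm_bc : ∀ u r, Commute (xb R u) (xc R r) := by
  refine commute_all E (d := (g 1 * g 4 * (g 1 * g 4)) ^ E.D.i) (e := g 4 ^ E.D.i) (μ := E.D.ζ ^ E.D.i)
    (xb_add R) (xc_add R) ?_ (pow_ne_zero _ E.D.ne) ?_ ?_ (biB R) ((bC R).pow _)
  · rw [xb_one, xc_one]; exact R.cbc
  · simpa using ((abB R).mul (abB R)).pow E.D.i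
  · have h := (((aC R).mul (bC R)).mul ((aC R).mul (bC R))).pow E.D.i
    rwa [one_mul, mul_pow E.D.ζ E.D.ζ, ← pow_two (E.D.ζ ^ E.D.i)] at h

/-- The element fixing the short simple family and scaling the others. -/
theorem dA : Sc ((g 1 * g 4 * g 4) ^ E.D.i) (xa R) 1 ∧
    Sc ((g 1 * g 4 * g 4) ^ E.D.i) (xb R) ((E.D.ζ ^ E.D.i) ^ 2) ∧
    Sc ((g 1 * g 4 * g 4) ^ E.D.i) (xc R) ((E.D.ζ ^ E.D.i) ^ 2) ∧
    Sc ((g 1 * g 4 * g 4) ^ E.D.i) (xz R) ((E.D.ζ ^ E.D.i) ^ 2) := by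
  have hne := E.D.ne
  refine ⟨?_, ?_, ?_, ?_⟩
  · have h := (((aA R).mul (bA R)).mul (bA R)).pow E.D.i
    rwa [show E.D.ζ ^ 2 * E.D.ζ⁻¹ * E.D.ζ⁻¹ = 1 by field_simp, one_pow] at h
  · have h := (((abB R)).mul (bB R)).pow E.D.i
    rwa [one_mul, ← pow_mul, mul_comm, pow_mul] at h
  · have h := (((aC R).mul (bC R)).mul (bC R)).pow E.D.i
    rwa [one_mul, mul_pow E.D.ζ E.D.ζ, ← pow_two (E.D.ζ ^ E.D.i)] at h
  · have h := (((aZ R).mul (bZ R)).mul (bZ R)).pow E.D.i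
    rwa [mul_one, mul_one, ← pow_mul, mul_comm, pow_mul] at h

theorem comm_az : ∀ t r, Commute (xa R t) (xz R r) := by
  refine commute_all E (d := (g 1 * g 4 * g 4) ^ E.D.i) (e := g 1 ^ E.D.i) (μ := (E.D.ζ ^ 2) ^ E.D.i)
    (xa_add R) (xz_add R) ?_ (pow_ne_zero _ (pow_ne_zero _ E.D.ne)) (dA R).1 (dA R).2.2.2 (aiA R) ((aZ R).pow _)
  rw [xa_one, xz_one]; exact R.caz

theorem comm_cz : ∀ v r, Commute (xc R v) (xz R r) := fun v r =>
  commute_move (d := g 5) (comm_az R v r) rfl (wb_xz R r)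

theorem cac_all : ∀ t v, ⁅xa R t, xc R v⁆ = xz R (-(2 * t * v)) := by
  obtain ⟨da, -, dc, dz⟩ := dA R
  have hz := xz_add R
  have hnn : ∀ x : F, (x * 1 : F) = x := mul_one
  have h1 : ∀ v, ⁅xa R 1, xc R v⁆ = xz R (-(2 * v)) := by
    refine span E ?_ (fun s t hs ht => ?_) fun n => ?_
    · rw [zero_of_add (xc_add R), commutatorElement_one_right, mul_zero, neg_zero, zero_of_add hz]
    · rw [xc_add, StLinear.elem_mul_right, hs, ht, (comm_cz R s _).eq, mul_inv_cancel_right, ← hz]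
      congr 1; ring
    · have e : ⁅xa R 1, xc R 1⁆ = xz R (-2) := by
        rw [xa_one, xc_one, R.cac, neg_of_add hz, show (2 : F) = 1 + 1 by norm_num, hz, xz_one]
      exact commutator_move e ((da.pow n 1).trans (by rw [one_pow, one_mul]))
        ((dc.pow n 1).trans (by rw [mul_one])) ((dz.pow n _).trans (by congr 1; ring))
  refine span E (fun v => ?_) (fun s t hs ht v => ?_) fun n v => ?_
  · rw [zero_of_add (xa_add R), commutatorElement_one_left]; simp [zero_of_add hz]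
  · rw [xa_add, StLinear.elem_mul_left, ht, hs, (comm_az R s _).eq, mul_inv_cancel_right, ← hz]
    congr 1; ring
  · refine commutator_move (h1 v) (((aiA R).pow n 1).trans (hnn _ ▸ rfl)) ((((aC R).pow E.D.i).pow n v).trans ?_)
      ((((aZ R).pow E.D.i).pow n _).trans ?_)
    · simp
    · congr 1; rw [← pow_mul E.D.ζ 2, mul_comm 2, pow_mul]; ring

theorem cab_all : ∀ t u, ⁅xa R t, xb R u⁆ = xc R (-(t * u)) * xz R (t ^ 2 * u) := by
  obtain ⟨da, db, dc, dz⟩ := dA R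
  have hz := xz_add R
  have hc := xc_add R
  have conj_mul : ∀ d a b : H, d * (a * b) * d⁻¹ = d * a * d⁻¹ * (d * b * d⁻¹) := fun d a b => by group
  have h1 : ∀ u, ⁅xa R 1, xb R u⁆ = xc R (-u) * xz R u := by
    refine span E ?_ (fun s t hs ht => ?_) fun n => ?_
    · rw [zero_of_add (xb_add R), commutatorElement_one_right, neg_zero, zero_of_add hc, zero_of_add hz, one_mul]
    · rw [xb_add, StLinear.elem_mul_right, hs, ht,
        ((comm_bc R s (-t)).mul_right (comm_bz R s t)).eq, mul_inv_cancel_right, neg_add, hc, hz]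
      have e := (comm_cz R (-t) s).eq
      calc xc R (-s) * xz R s * (xc R (-t) * xz R t) = xc R (-s) * (xz R s * xc R (-t)) * xz R t := by group
        _ = _ := by rw [← e]; group
    · have e : ⁅xa R 1, xb R 1⁆ = xc R (-1) * xz R 1 := by
        rw [xa_one, xb_one, R.cab, neg_of_add hc, xc_one, xz_one]
      refine commutator_move e ((da.pow n 1).trans (by rw [one_pow, one_mul]))
        ((db.pow n 1).trans (by rw [mul_one])) ?_
      rw [conj_mul, dc.pow n, dz.pow n, mul_neg, mul_one]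
  refine span E (fun u => ?_) (fun s t hs ht u => ?_) fun n u => ?_
  · rw [zero_of_add (xa_add R), commutatorElement_one_left]; simp [zero_of_add hc, zero_of_add hz]
  · rw [xa_add, StLinear.elem_mul_left, ht, hs, conj_mul]
    have e1 : xa R s * xc R (-(t * u)) * (xa R s)⁻¹ = xz R (2 * s * t * u) * xc R (-(t * u)) := by
      have e := cac_all R s (-(t * u))
      rw [commutatorElement_def, mul_inv_eq_iff_eq_mul] at e
      rw [e]
      congr 2
      ring
    rw [e1, mul_inv_eq_of_eq_mul (comm_az R s (t ^ 2 * u)).eq,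
      show -((s + t) * u) = -(t * u) + -(s * u) by ring,
      show (s + t) ^ 2 * u = 2 * s * t * u + t ^ 2 * u + s ^ 2 * u by ring, hc, hz, hz]
    have eAB := (comm_cz R (-(t * u)) (2 * s * t * u)).eq
    have eCD := (comm_cz R (-(s * u)) (t ^ 2 * u)).eq
    have eAD := (comm_cz R (-(s * u)) (2 * s * t * u)).eq
    generalize xz R (2 * s * t * u) = A at *
    generalize xz R (t ^ 2 * u) = C at *
    generalize xz R (s ^ 2 * u) = K at *
    generalize xc R (-(t * u)) = B at *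
    generalize xc R (-(s * u)) = D at *
    calc A * B * C * (D * K) = A * B * (C * D) * K := by group
      _ = B * (A * D) * C * K := by rw [← eAB, ← eCD]; group
      _ = B * D * (A * C * K) := by rw [← eAD]; group
  · have hA : ((E.D.ζ ^ E.D.i) ^ 2) ^ n ≠ 0 := pow_ne_zero _ (pow_ne_zero _ (pow_ne_zero _ E.D.ne))
    have eA : ((E.D.ζ ^ 2)⁻¹) ^ E.D.i = ((E.D.ζ ^ E.D.i) ^ 2)⁻¹ := by rw [inv_pow, ← pow_mul, mul_comm, pow_mul]
    have eZ : (E.D.ζ ^ 2) ^ E.D.i = (E.D.ζ ^ E.D.i) ^ 2 := by rw [← pow_mul, mul_comm, pow_mul]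
    refine commutator_move (h1 (((E.D.ζ ^ E.D.i) ^ 2) ^ n * u)) (((aiA R).pow n 1).trans (by rw [mul_one]))
      ((((aB R).pow E.D.i).pow n _).trans ?_) ?_
    · rw [eA, inv_pow, inv_mul_cancel_left₀ hA]
    · rw [conj_mul, ((aC R).pow E.D.i).pow n, ((aZ R).pow E.D.i).pow n, eZ, one_pow, one_pow, one_mul, ← mul_assoc,
        ← pow_two]

end Cfsg.Agent.Sp4Pres
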