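import Cfsg.Agent.Lib.SL2.PresData

/-!
# The relations of a short presentation of `Sp₄`

Six elements: two triples presenting the rank one groups of a short and of a long simple root, and relations
for the torus, the Weyl elements and five commutators.
-/

set_option autoImplicit false

namespace Cfsg.Agent.Sp4Pres

open Polynomial Cfsg.Agent.SL2Pres
open scoped commutatorElement

/-- The choices in the field. -/
structure Dat (p : ℕ) [Fact p.Prime] (F : Type*) [Field F] [Algebra (ZMod p) F] where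
  D : Data p F
  k : ℕ
  neg : D.ζ ^ k = -1
  j : ℕ
  spread : D.m.natDegree ≤ 2 ∨ (D.ζ ^ j) ^ 2 = 1 + (D.ζ ^ D.i) ^ 2

variable {p : ℕ} [Fact p.Prime] {F : Type*} [Field F] [Algebra (ZMod p) F] {H : Type*} [Group H]

/-- The spreading relator. -/
noncomputable def spreadR (E : Dat p F) (u h : H) : H :=
  if E.D.m.natDegree ≤ 2 then 1 else h ^ E.j * u * (h ^ E.j)⁻¹ * (u * cjN (h ^ E.D.i) u 1)⁻¹

/-- The relators of one rank one group. -/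
noncomputable def rankL (E : Dat p F) (u h w : H) : List H :=
  [u ^ p, ⁅u, cjN (h ^ E.D.i) u 1⁆, spreadR E u h, pw (h ^ E.D.i) u E.D.m,
    h * u * h⁻¹ * (pw (h ^ E.D.i) u E.D.fh)⁻¹, ⁅w * w, u⁆, w * h * w⁻¹ * h, u * (w * u * w⁻¹) * u * w⁻¹,
    pw (h ^ E.D.i) u E.D.fz * (w * pw (h ^ E.D.i) u E.D.fzi * w⁻¹) * pw (h ^ E.D.i) u E.D.fz * (h * w)⁻¹]

/-- The relators joining the two groups. -/
noncomputable def joinL (E : Dat p F) (g : Fin 6 → H) : List H :=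
  [⁅g 1, g 4⁆, ⁅g 1 * g 4, g 3⁆, g 4 * g 0 * (g 4)⁻¹ * (pw (g 1 ^ E.D.i) (g 0) E.D.fzi)⁻¹,
    g 2 * g 4 * (g 2)⁻¹ * (g 1 * g 4)⁻¹, g 5 * g 1 * (g 5)⁻¹ * (g 1 * g 4 * g 4)⁻¹,
    g 2 * g 5 * g 2 * g 5 * (g 5 * g 2 * g 5 * g 2)⁻¹, ⁅g 5, g 2 * g 3 * (g 2)⁻¹⁆,
    g 2 * (g 5 * g 0 * (g 5)⁻¹) * (g 2)⁻¹ * (g 5 * g 0 * (g 5)⁻¹),
    ⁅g 0, g 3⁆ * ((g 5 * g 0 * (g 5)⁻¹)⁻¹ * (g 2 * g 3 * (g 2)⁻¹))⁻¹,
    ⁅g 0, g 5 * g 0 * (g 5)⁻¹⁆ * (g 2 * g 3 * (g 2)⁻¹ * (g 2 * g 3 * (g 2)⁻¹)),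
    ⁅g 3, g 5 * g 0 * (g 5)⁻¹⁆, ⁅g 3, g 2 * g 3 * (g 2)⁻¹⁆, ⁅g 0, g 2 * g 3 * (g 2)⁻¹⁆]

/-- All relators. -/
noncomputable def relL (E : Dat p F) (g : Fin 6 → H) : List H :=
  rankL E (g 0) (g 1) (g 2) ++ rankL E (g 3) (g 4) (g 5) ++ joinL E g

theorem length_relL (E : Dat p F) (g : Fin 6 → H) : (relL E g).length = 31 := by
  simp [relL, rankL, joinL]

theorem map_rankL {K : Type*} [Group K] (f : H →* K) (E : Dat p F) (u h w : H) :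
    (rankL E u h w).map f = rankL E (f u) (f h) (f w) := by
  have h1 : f (spreadR E u h) = spreadR E (f u) (f h) := by
    simp only [spreadR]; split_ifs <;> simp [cjN]
  simp [rankL, h1, map_pw, cjN, map_commutatorElement]

theorem map_relL {K : Type*} [Group K] (f : H →* K) (E : Dat p F) (g : Fin 6 → H) :
    (relL E g).map f = relL E (f ∘ g) := by
  simp only [relL, List.map_append, map_rankL]
  congr 1
  simp [joinL, map_pw, map_commutatorElement]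

/-- The relations, as equations. -/
structure Holds6 (E : Dat p F) (g : Fin 6 → H) : Prop where
  ra : Holds E.D (g 0) (g 1) (g 2)
  rb : Holds E.D (g 3) (g 4) (g 5)
  hh : Commute (g 1) (g 4)
  hhu : Commute (g 1 * g 4) (g 3)
  hbu : g 4 * g 0 * (g 4)⁻¹ = pw (g 1 ^ E.D.i) (g 0) E.D.fzi
  wah : g 2 * g 4 * (g 2)⁻¹ = g 1 * g 4
  wbh : g 5 * g 1 * (g 5)⁻¹ = g 1 * g 4 * g 4
  braid : g 2 * g 5 * g 2 * g 5 = g 5 * g 2 * g 5 * g 2
  wbz : Commute (g 5) (g 2 * g 3 * (g 2)⁻¹)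
  wac : g 2 * (g 5 * g 0 * (g 5)⁻¹) * (g 2)⁻¹ = (g 5 * g 0 * (g 5)⁻¹)⁻¹
  cab : ⁅g 0, g 3⁆ = (g 5 * g 0 * (g 5)⁻¹)⁻¹ * (g 2 * g 3 * (g 2)⁻¹)
  cac : ⁅g 0, g 5 * g 0 * (g 5)⁻¹⁆ = (g 2 * g 3 * (g 2)⁻¹ * (g 2 * g 3 * (g 2)⁻¹))⁻¹
  cbc : Commute (g 3) (g 5 * g 0 * (g 5)⁻¹)
  cbz : Commute (g 3) (g 2 * g 3 * (g 2)⁻¹)
  caz : Commute (g 0) (g 2 * g 3 * (g 2)⁻¹)

theorem holds_of_rankL (E : Dat p F) (u h w : H) (hr : ∀ r ∈ rankL E u h w, r = 1) : Holds E.D u h w := by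
  simp only [rankL, List.mem_cons, List.not_mem_nil, or_false, forall_eq_or_imp, forall_eq] at hr
  obtain ⟨e1, e2, e3, e4, e5, e6, e7, e8, e9⟩ := hr
  refine ⟨e1, commutatorElement_eq_one_iff_commute.1 e2, ?_, e4, mul_inv_eq_one.1 e5,
    commutatorElement_eq_one_iff_commute.1 e6, eq_inv_of_mul_eq_one_left e7, mul_inv_eq_one.1 e8,
    mul_inv_eq_one.1 e9⟩
  by_cases hd : E.D.m.natDegree ≤ 2
  · exact Or.inl hd
  · rw [spreadR, if_neg hd] at e3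
    exact Or.inr ⟨E.j, mul_inv_eq_one.1 e3⟩

theorem holds_of_relL (E : Dat p F) (g : Fin 6 → H) (h : ∀ r ∈ relL E g, r = 1) : Holds6 E g := by
  simp only [relL, List.mem_append, or_imp, forall_and] at h
  obtain ⟨⟨ha, hb⟩, hj⟩ := h
  simp only [joinL, List.mem_cons, List.not_mem_nil, or_false, forall_eq_or_imp, forall_eq] at hj
  obtain ⟨e1, e2, e3, e4, e5, e6, e7, e8, e9, e10, e11, e12, e13⟩ := hj
  exact ⟨holds_of_rankL E _ _ _ ha, holds_of_rankL E _ _ _ hb, commutatorElement_eq_one_iff_commute.1 e1,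
    commutatorElement_eq_one_iff_commute.1 e2, mul_inv_eq_one.1 e3, mul_inv_eq_one.1 e4, mul_inv_eq_one.1 e5,
    mul_inv_eq_one.1 e6, commutatorElement_eq_one_iff_commute.1 e7, eq_inv_of_mul_eq_one_left e8,
    mul_inv_eq_one.1 e9, eq_inv_of_mul_eq_one_left e10, commutatorElement_eq_one_iff_commute.1 e11,
    commutatorElement_eq_one_iff_commute.1 e12, commutatorElement_eq_one_iff_commute.1 e13⟩

theorem relL_of_holds (E : Dat p F) (g : Fin 6 → H) (R : Holds6 E g)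
    (sa : E.D.m.natDegree ≤ 2 ∨ g 1 ^ E.j * g 0 * (g 1 ^ E.j)⁻¹ = g 0 * cjN (g 1 ^ E.D.i) (g 0) 1)
    (sb : E.D.m.natDegree ≤ 2 ∨ g 4 ^ E.j * g 3 * (g 4 ^ E.j)⁻¹ = g 3 * cjN (g 4 ^ E.D.i) (g 3) 1) :
    ∀ r ∈ relL E g, r = 1 := by
  have hrank : ∀ u h w : H, Holds E.D u h w →
      (E.D.m.natDegree ≤ 2 ∨ h ^ E.j * u * (h ^ E.j)⁻¹ = u * cjN (h ^ E.D.i) u 1) →
      ∀ r ∈ rankL E u h w, r = 1 := by
    intro u h w R' s
    simp only [rankL, List.mem_cons, List.not_mem_nil, or_false, forall_eq_or_imp, forall_eq,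
      commutatorElement_eq_one_iff_commute, mul_inv_eq_one]
    refine ⟨R'.pow_u, R'.comm, ?_, R'.rel_m, R'.rel_h, R'.sq_w, ?_, R'.rel_one, R'.rel_zeta⟩
    · simp only [spreadR]
      split_ifs with hd
      · rfl
      · exact mul_inv_eq_one.2 (s.resolve_left hd)
    · rw [R'.inv_h, inv_mul_cancel]
  simp only [relL, List.mem_append, or_imp, forall_and]
  refine ⟨⟨hrank _ _ _ R.ra sa, hrank _ _ _ R.rb sb⟩, ?_⟩
  simp only [joinL, List.mem_cons, List.not_mem_nil, or_false, forall_eq_or_imp, forall_eq,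
    commutatorElement_eq_one_iff_commute, mul_inv_eq_one]
  refine ⟨R.hh, R.hhu, R.hbu, R.wah, R.wbh, R.braid, R.wbz, ?_, R.cab, ?_, R.cbc, R.cbz, R.caz⟩
  · rw [R.wac, inv_mul_cancel]
  · rw [R.cac, inv_mul_cancel]

end Cfsg.Agent.Sp4Pres
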